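import Cfsg.Agent.S2127
import Cfsg.Agent.S2128
import Cfsg.Agent.Prune
set_option linter.all false
prune_inst 0x7f00000000000000000000000000000000000000000000000000000000000000000000000000000000000000000000000000000000000000000000000000000000000000000000000000000000000000003fffffffffffffffffffffffffffbeffbdffffffff
open scoped Cfsg.Agent.FastGrp

/-!
# Automorphisms of `²G₂(q)` and `²F₄(q)`: every automorphism is a conjugation times a field automorphism

* `ree_aut` : `α = conj g * S2127.fld τ (3 ^ m)` for `α : MulAut ↥(twistedG2 K (3 ^ m))`, `m ≥ 1`;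
* `twF4_aut` : `α = conj g * S2128.fld τ (2 ^ m)` for `α : MulAut ↥(twistedF4 K (2 ^ m))`, `m ≥ 1`;
* `coe_fldG`, `coe_fldF` : `fld τ e` is the entrywise action of `τ`; `fldG_mul`, `fldF_mul` : `τ ↦ fld τ e` is a
  homomorphism.
-/

set_option autoImplicit false

namespace Cfsg.Agent.H71.FldAut

open Cfsg.Lie Cfsg.Agent.ChevStructure.FieldMap Cfsg.Agent.ChevalleyStructure.Ree.Gens
  Cfsg.Agent.ChevalleyStructure.Ree Cfsg.Agent.H71 Cfsg.Agent.LieRecognition Cfsg.Agent.ChevalleyStructure.Ree.Normal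
  Cfsg.Agent.ChevalleyStructure.TwF4.TwistedFix Cfsg.Agent.KFacts.TwF4.Inst

variable {K : Type*} [Field K]

theorem coe_fldG (τ : K ≃+* K) (e : ℕ) (g : ↥(twistedG2 K e)) :
    (((S2127.fld τ e g : ↥(twistedG2 K e)) : GL chevG2.Idx K) : Matrix chevG2.Idx chevG2.Idx K) =
      ((g : GL chevG2.Idx K) : Matrix chevG2.Idx chevG2.Idx K).map τ := rfl

theorem coe_fldF (τ : K ≃+* K) (e : ℕ) (g : ↥(twistedF4 K e)) :
    (((S2128.fld τ e g : ↥(twistedF4 K e)) : GL chevF4.Idx K) : Matrix chevF4.Idx chevF4.Idx K) =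
      ((g : GL chevF4.Idx K) : Matrix chevF4.Idx chevF4.Idx K).map τ := rfl

theorem fldG_mul (τ ρ : K ≃+* K) (e : ℕ) : S2127.fld (τ * ρ) e = S2127.fld τ e * S2127.fld ρ e := by
  ext g : 1
  apply Subtype.ext
  apply Units.ext
  rw [coe_fldG, MulAut.mul_apply, coe_fldG, coe_fldG]
  ext i j
  rfl

theorem fldF_mul (τ ρ : K ≃+* K) (e : ℕ) : S2128.fld (τ * ρ) e = S2128.fld τ e * S2128.fld ρ e := by
  ext g : 1
  apply Subtype.ext
  apply Units.ext
  rw [coe_fldF, MulAut.mul_apply, coe_fldF, coe_fldF]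
  ext i j
  rfl

/-- the field automorphisms of `²G₂` in the coordinates -/
theorem reeFld {m : ℕ} {θ : K →+* K} (c : Ctx θ (3 ^ m)) [Fintype K] :
    ReeOut.Fld (Data.data c) (fun τ => S2127.fld τ (3 ^ m)) where
  onU τ t u v := by
    apply Subtype.ext
    exact S2127.glE_wU τ _ _ _ _
  onH τ a := by
    apply Subtype.ext
    exact S2127.glE_tU τ _ _
  onN τ := by
    apply Subtype.ext
    exact S2127.glE_nU τ

/-- **Every automorphism of `²G₂(q)`, `q = 3 ^ (2 m + 1) ≥ 27`, is a conjugation times a field automorphism.** -/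
theorem ree_aut [Fintype K] {m : ℕ} (hm : 1 ≤ m) (hK : Fintype.card K = 3 ^ (2 * m + 1))
    (α : MulAut ↥(twistedG2 K (3 ^ m))) : ∃ (g : ↥(twistedG2 K (3 ^ m))) (τ : K ≃+* K),
      α = MulAut.conj g * S2127.fld τ (3 ^ m) := by
  obtain ⟨θ, c⟩ := exists_ctx hK
  have hfin : Finite ↥(twistedG2 K (3 ^ m)) := ReeSylowThree.finite (Data.data c)
  obtain ⟨k, hk⟩ := ReeOut.exists_frame hK (Data.data c) α
  obtain ⟨a, τ, h⟩ := ReeOut.exists_of_frame hm hK (reeFld c) hk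
  refine ⟨k⁻¹ * Data.T c a, τ, ?_⟩
  rw [map_mul, map_inv, mul_assoc, ← h, inv_mul_cancel_left]

/-- **Every automorphism of `²F₄(q)`, `q = 2 ^ (2 m + 1) ≥ 8`, is a conjugation times a field automorphism.** -/
theorem twF4_aut [Fintype K] {m : ℕ} (hm : 1 ≤ m) (hK : Fintype.card K = 2 ^ (2 * m + 1))
    (α : MulAut ↥(twistedF4 K (2 ^ m))) : ∃ (g : ↥(twistedF4 K (2 ^ m))) (τ : K ≃+* K),
      α = MulAut.conj g * S2128.fld τ (2 ^ m) := by
  have hch : CharP K 2 := Cfsg.Agent.ChevalleyStructure.TwF4.Twisted.charP_two hK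
  obtain ⟨φ, hφ⟩ := exists_rln hK
  have hF : ∃ c : Kˣ, c ≠ 1 := by
    have h1 : 1 < Nat.card Kˣ := by
      rw [Nat.card_units, Nat.card_eq_fintype_card, hK]
      have : 2 ^ 3 ≤ 2 ^ (2 * m + 1) := Nat.pow_le_pow_right (by norm_num) (by omega)
      omega
    have : Nontrivial Kˣ := Finite.one_lt_card_iff_nontrivial.1 h1
    exact exists_ne 1
  obtain ⟨k, τ0, ho, he⟩ := Cfsg.Agent.KFacts.TwF4.AutNorm.aut_form (full hK hφ) hF rfl α
  obtain ⟨τ, hτ⟩ : ∃ τ : K ≃+* K, ∀ x, τ x = τ0 x :=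
    ⟨RingEquiv.ofBijective τ0 (Finite.injective_iff_bijective.1 τ0.injective), fun _ => rfl⟩
  refine ⟨k, τ, S2128.aut_ext (full hK hφ) ?_ ?_⟩
  · intro a t
    have h1 : S2128.fld τ (2 ^ m) ((full hK hφ).o a t) = (full hK hφ).o a (τ t) := S2128.fld_ro τ hφ a t
    rw [ho, MulAut.mul_apply, h1, MulAut.conj_apply, hτ]
  · intro a p u
    have h1 : S2128.fld τ (2 ^ m) ((full hK hφ).e a p u) = (full hK hφ).e a (τ p) (τ u) := S2128.fld_re τ hφ a p u
    rw [he, MulAut.mul_apply, h1, MulAut.conj_apply, hτ, hτ]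

end Cfsg.Agent.H71.FldAut
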