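import Mathlib
import Cfsg.Prelude.Def_KGroupFacts
import Cfsg.Agent.LieRecognition.ReeSplit
import Cfsg.Agent.LieRecognition.ReeThree
import Cfsg.Agent.Lib.FieldAutCard
set_option linter.all false

/-!
# The outer automorphism group of the small Ree groups, abstract part

`Data m U h n` (the relations of `²G₂(q)`, `q = 3^(2m+1) ≥ 27`), with the field automorphisms given:
`|Out G| = 2m + 1`.

* `rigid` : an automorphism fixing `U`, `U^n`, trivial on `H` and trivial on `U` modulo `Ω₁(U)` is trivial;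
* `card_out` : the count.
-/

set_option autoImplicit false
set_option linter.unusedSectionVars false

namespace Cfsg.Agent.H71.ReeOut

open scoped Pointwise
open Cfsg.Agent.LieRecognition.ReeAbs Cfsg.Agent.LieRecognition.ReeSylowThree
  Cfsg.Agent.LieRecognition.ReeSplit Cfsg.Agent.LieRecognition

universe u

/-- Abstract counting: `F ≤ Aut Y` with `Aut Y = Inn Y * F`, `F ∩ Inn Y = conj T`, `T ∩ Z(Y) = 1`. -/
theorem card_out_of {Y : Type u} [Group Y] (F : Subgroup (MulAut Y)) (T : Subgroup Y)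
    (h1 : ∀ α : MulAut Y, ∃ g : Y, MulAut.conj g * α ∈ F)
    (h2 : ∀ g : Y, MulAut.conj g ∈ F ↔ g ∈ T)
    (h3 : ∀ t ∈ T, (MulAut.conj t : MulAut Y) = 1 → t = 1) :
    Nat.card ↥T * Nat.card (Cfsg.Out Y) = Nat.card ↥F := by
  let f : ↥F →* Cfsg.Out Y := (QuotientGroup.mk' (Cfsg.Inn Y)).comp F.subtype
  have hf : Function.Surjective f := by
    intro x
    obtain ⟨α, rfl⟩ := QuotientGroup.mk'_surjective (Cfsg.Inn Y) x
    obtain ⟨g, hg⟩ := h1 α
    refine ⟨⟨_, hg⟩, ?_⟩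
    show QuotientGroup.mk' (Cfsg.Inn Y) (MulAut.conj g * α) = _
    rw [map_mul]
    have : QuotientGroup.mk' (Cfsg.Inn Y) (MulAut.conj g) = 1 :=
      (QuotientGroup.eq_one_iff _).2 ⟨g, rfl⟩
    rw [this, one_mul]
  let j : ↥T → ↥f.ker := fun t => ⟨⟨MulAut.conj t.1, (h2 _).2 t.2⟩, (QuotientGroup.eq_one_iff _).2 ⟨t.1, rfl⟩⟩
  have hj : Function.Bijective j := by
    constructor
    · intro a b hab
      have e : (MulAut.conj a.1 : MulAut Y) = MulAut.conj b.1 := congrArg (fun z => z.1.1) hab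
      have e1 : (MulAut.conj (a.1 * b.1⁻¹) : MulAut Y) = 1 := by
        rw [map_mul, map_inv, e, mul_inv_cancel]
      exact Subtype.ext (mul_inv_eq_one.1 (h3 _ (mul_mem a.2 (inv_mem b.2)) e1))
    · rintro ⟨⟨β, hβ⟩, hk⟩
      obtain ⟨g, hg⟩ := (QuotientGroup.eq_one_iff (N := Cfsg.Inn Y) _).1 hk
      have hg' : MulAut.conj g = β := hg
      subst hg'
      exact ⟨⟨g, (h2 g).1 hβ⟩, rfl⟩
  have hc := f.ker.card_mul_index
  rw [Subgroup.index_ker, MonoidHom.range_eq_top.2 hf, Subgroup.card_top, ← Nat.card_congr (Equiv.ofBijective j hj)] at hc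
  exact hc

variable {K : Type*} [Field K] [Fintype K] {G : Type u} [Group G]
variable {m : ℕ} {U : K → K → K → G} {h : Kˣ → G} {n : G}

/-- torus -/
def hSub (D : Data m U h n) : Subgroup G where
  carrier := {g | ∃ a, g = h a}
  mul_mem' := by
    rintro _ _ ⟨a, rfl⟩ ⟨b, rfl⟩
    exact ⟨a * b, (D.h_mul a b).symm⟩
  one_mem' := ⟨1, D.h_one.symm⟩
  inv_mem' := by
    rintro _ ⟨a, rfl⟩
    exact ⟨a⁻¹, (D.h_inv a).symm⟩

theorem h_injective (D : Data m U h n) : Function.Injective h := by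
  intro a b hab
  exact (D.inj₁ 0 0 0 a 0 0 0 b (by rw [hab])).2.2.2

theorem card_hSub (D : Data m U h n) : Nat.card (hSub D) = Fintype.card K - 1 := by
  let f : Kˣ → hSub D := fun a => ⟨h a, a, rfl⟩
  have hf : Function.Bijective f := by
    constructor
    · intro a b hab
      exact h_injective D (congrArg Subtype.val hab)
    · rintro ⟨g, a, rfl⟩
      exact ⟨a, rfl⟩
  rw [← Nat.card_congr (Equiv.ofBijective f hf), Nat.card_units, Nat.card_eq_fintype_card]

/-- the automorphisms fixing `U` and `U^n` -/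
def Fr (D : Data m U h n) : Subgroup (MulAut G) where
  carrier := {α | (∀ x, α x ∈ uSub D ↔ x ∈ uSub D) ∧ (∀ x, n * α x * n ∈ uSub D ↔ n * x * n ∈ uSub D)}
  mul_mem' := by
    rintro α β ⟨a1, a2⟩ ⟨b1, b2⟩
    exact ⟨fun x => (a1 _).trans (b1 x), fun x => (a2 _).trans (b2 x)⟩
  one_mem' := ⟨fun _ => Iff.rfl, fun _ => Iff.rfl⟩
  inv_mem' := by
    rintro α ⟨a1, a2⟩
    refine ⟨fun x => ?_, fun x => ?_⟩
    · have := a1 (α⁻¹ x)
      rw [MulAut.apply_inv_self] at this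
      exact this.symm
    · have := a2 (α⁻¹ x)
      rw [MulAut.apply_inv_self] at this
      exact this.symm

theorem mem_Fr (D : Data m U h n) {α : MulAut G} :
    α ∈ Fr D ↔ (∀ x, α x ∈ uSub D ↔ x ∈ uSub D) ∧ (∀ x, n * α x * n ∈ uSub D ↔ n * x * n ∈ uSub D) := Iff.rfl

/-- `B ∩ B^n = H` -/
theorem mem_hSub_of (D : Data m U h n) {g : G} (h1 : g ∈ bSub D) (h2 : n * g * n ∈ bSub D) : g ∈ hSub D := by
  obtain ⟨t, u, v, a, rfl⟩ := h1
  obtain ⟨t', u', v', a', h3⟩ := h2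
  have h4 : U t u v * h a * n * U 0 0 0 = U 0 0 0 * h 1 * n * (U t' u' v' * h a') := by
    rw [← h3, D.U_zero, D.h_one, mul_one, one_mul, one_mul]
    calc U t u v * h a * n = (n * n) * (U t u v * h a) * n := by rw [D.n_n, one_mul]
      _ = n * (n * (U t u v * h a) * n) := by group
  have h5 : U t' u' v' * h a' = h a' * (h a'⁻¹ * U t' u' v' * h a') := by
    rw [D.h_inv]; group
  obtain ⟨t1, u1, v1, h6⟩ : ∃ t1 u1 v1, h a'⁻¹ * U t' u' v' * h a' = U t1 u1 v1 := by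
    obtain ⟨t1, u1, v1, h7⟩ := h_conj_mem D a'⁻¹ (x := U t' u' v') ⟨_, _, _, rfl⟩
    refine ⟨t1, u1, v1, ?_⟩
    rw [← h7, D.h_inv, inv_inv]
  rw [h5, h6] at h4
  have h7 : U 0 0 0 * h 1 * n * (h a' * U t1 u1 v1) = U 0 0 0 * h a'⁻¹ * n * U t1 u1 v1 := by
    rw [D.h_one, mul_one, mul_assoc (U 0 0 0) n, ← mul_assoc n, D.n_h]
    group
  rw [h7] at h4
  obtain ⟨rfl, rfl, rfl, -⟩ := D.inj₂ _ _ _ _ _ _ _ _ _ _ _ _ _ _ h4
  exact ⟨a, by rw [D.U_zero, one_mul]⟩

theorem mem_bSub_of_norm (D : Data m U h n) {g : G} (hg : ∀ x ∈ uSub D, g⁻¹ * x * g ∈ uSub D) : g ∈ bSub D := by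
  refine mem_bSub_of_inv_conj_mem D (x := U 1 0 0) ⟨_, _, _, rfl⟩ ?_ (hg _ ⟨_, _, _, rfl⟩)
  rw [← D.U_zero]
  intro h1
  exact one_ne_zero (U_injective D h1).1

/-- an element normalising `U` and `U^n` is in `H` -/
theorem mem_hSub_of_norm (D : Data m U h n) {g : G} (h1 : ∀ x, g⁻¹ * x * g ∈ uSub D ↔ x ∈ uSub D)
    (h2 : ∀ x, n * (g⁻¹ * x * g) * n ∈ uSub D ↔ n * x * n ∈ uSub D) : g ∈ hSub D := by
  refine mem_hSub_of D (mem_bSub_of_norm D fun x hx => (h1 x).2 hx) (mem_bSub_of_norm D fun x hx => ?_)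
  have h3 := (h2 (n * x * n)).2 (by
    have : n * (n * x * n) * n = (n * n) * x * (n * n) := by group
    rw [this, D.n_n, one_mul, mul_one]
    exact hx)
  have h4 : (n * g * n)⁻¹ * x * (n * g * n) = n * (g⁻¹ * (n * x * n) * g) * n := by
    rw [mul_inv_rev, mul_inv_rev, D.n_inv]
    group
  rw [h4]
  exact h3

theorem conj_h_mem (D : Data m U h n) (a : Kˣ) : MulAut.conj (h a) ∈ Fr D := by
  have key : ∀ (a : Kˣ) (x : G), x ∈ uSub D → h a * x * (h a)⁻¹ ∈ uSub D := fun a x hx => h_conj_mem D a hx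
  have key' : ∀ (a : Kˣ) (x : G), h a * x * (h a)⁻¹ ∈ uSub D ↔ x ∈ uSub D := by
    intro a x
    refine ⟨fun hx => ?_, key a x⟩
    have := key a⁻¹ _ hx
    have e : h a⁻¹ * (h a * x * (h a)⁻¹) * (h a⁻¹)⁻¹ = x := by
      rw [D.h_inv]; group
    rwa [e] at this
  rw [mem_Fr]
  refine ⟨fun x => ?_, fun x => ?_⟩
  · rw [MulAut.conj_apply]
    exact key' a x
  · rw [MulAut.conj_apply]
    have e : n * (h a * x * (h a)⁻¹) * n = h a⁻¹ * (n * x * n) * (h a⁻¹)⁻¹ := by
      have e1 : (h a)⁻¹ * n = n * h a := by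
        rw [← D.h_inv, D.n_h]
      have e2 : n * h a = h a⁻¹ * n := D.n_h a
      calc n * (h a * x * (h a)⁻¹) * n = (n * h a) * x * ((h a)⁻¹ * n) := by group
        _ = h a⁻¹ * n * x * (n * h a) := by rw [e1, e2]
        _ = h a⁻¹ * (n * x * n) * (h a⁻¹)⁻¹ := by rw [D.h_inv]; group
    rw [e]
    exact key' _ _

theorem conj_mem_iff (D : Data m U h n) (g : G) : MulAut.conj g ∈ Fr D ↔ g ∈ hSub D := by
  constructor
  · intro hg
    have hg' := inv_mem hg
    rw [← map_inv, mem_Fr] at hg'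
    obtain ⟨h1, h2⟩ := hg'
    simp only [MulAut.conj_apply, inv_inv] at h1 h2
    exact mem_hSub_of_norm D h1 h2
  · rintro ⟨a, rfl⟩
    exact conj_h_mem D a

theorem conj_eq_one (D : Data m U h n) (hK : Fintype.card K = 3 ^ (2 * m + 1)) (t : G) (ht : t ∈ hSub D)
    (h1 : (MulAut.conj t : MulAut G) = 1) : t = 1 := by
  obtain ⟨a, rfl⟩ := ht
  have h2 : h a * U 1 0 0 * (h a)⁻¹ = U 1 0 0 := congrArg (fun β : MulAut G => β (U 1 0 0)) h1
  rw [D.h_U, mul_inv_cancel_right] at h2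
  have h3 := (U_injective D h2).1
  rw [mul_one, ← Units.val_pow_eq_pow_val] at h3
  have h4 := ReeThree.one_of_pow_a hK a (Units.ext h3)
  rw [h4, D.h_one]

/-! ### All automorphisms modulo the inner ones -/

theorem exists_sylow [Finite G] (hK : Fintype.card K = 3 ^ (2 * m + 1)) (D : Data m U h n) :
    ∃ S : Sylow 3 G, (S : Subgroup G) = uSub D := by
  have : Fact (Nat.Prime 3) := ⟨Nat.prime_three⟩
  have hcardU : Nat.card (uSub D) = 3 ^ (3 * (2 * m + 1)) := by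
    rw [card_uSub, hK, ← pow_mul, mul_comm]
  have hfac : (Nat.card G).factorization 3 = 3 * (2 * m + 1) := by
    rw [card_eq D, hK]
    set q := 3 ^ (2 * m + 1) with hq
    have hq3 : 3 ∣ q := dvd_pow_self 3 (by omega)
    have hq0 : 0 < q := by positivity
    have h1 : ¬ 3 ∣ (q - 1) * (q ^ 3 + 1) := by
      rw [Nat.prime_three.dvd_mul]
      have h3 : 3 ∣ q ^ 3 := dvd_pow hq3 (by norm_num)
      rintro (h | h) <;> omega
    rw [mul_assoc, Nat.factorization_mul (by positivity) (by intro h0; rw [h0] at h1; exact h1 (dvd_zero 3)),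
      Finsupp.add_apply, Nat.factorization_eq_zero_of_not_dvd h1, hq, ← pow_mul,
      Nat.Prime.factorization_pow Nat.prime_three, Finsupp.single_apply, if_pos rfl, add_zero, mul_comm]
  exact ⟨Sylow.ofCard (uSub D) (by rw [hcardU, hfac]), rfl⟩

theorem exists_conj_of_sylow [Finite G] (hK : Fintype.card K = 3 ^ (2 * m + 1)) (D : Data m U h n)
    (P : Sylow 3 G) : ∃ g : G, (P : Subgroup G) = (uSub D).map (MulAut.conj g).toMonoidHom := by
  have : Fact (Nat.Prime 3) := ⟨Nat.prime_three⟩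
  obtain ⟨S, hS⟩ := exists_sylow hK D
  obtain ⟨g, rfl⟩ := MulAction.exists_smul_eq G S P
  exact ⟨g, by rw [← hS]; rfl⟩

theorem exists_conj_apply [Finite G] (hK : Fintype.card K = 3 ^ (2 * m + 1)) (D : Data m U h n)
    (α : MulAut G) : ∃ g : G, ∀ x, g⁻¹ * α x * g ∈ uSub D ↔ x ∈ uSub D := by
  have : Fact (Nat.Prime 3) := ⟨Nat.prime_three⟩
  obtain ⟨S, hS⟩ := exists_sylow hK D
  obtain ⟨g, hg⟩ := exists_conj_of_sylow hK D (α • S)
  refine ⟨g, fun x => ?_⟩
  have h1 : ∀ y, y ∈ ((α • S : Sylow 3 G) : Subgroup G) ↔ α⁻¹ y ∈ uSub D := by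
    intro y
    rw [← hS]
    exact Subgroup.mem_pointwise_smul_iff_inv_smul_mem
  have h2 : ∀ y, y ∈ (uSub D).map (MulAut.conj g).toMonoidHom ↔ g⁻¹ * y * g ∈ uSub D := by
    intro y
    constructor
    · rintro ⟨z, hz, rfl⟩
      have e : g⁻¹ * (MulAut.conj g).toMonoidHom z * g = z := by
        show g⁻¹ * (g * z * g⁻¹) * g = z
        group
      rw [e]
      exact hz
    · intro hy
      refine ⟨_, hy, ?_⟩
      show g * (g⁻¹ * y * g) * g⁻¹ = y
      group
  rw [← h2, ← hg, h1, MulAut.inv_apply_self]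

theorem exists_frame [Finite G] (hK : Fintype.card K = 3 ^ (2 * m + 1)) (D : Data m U h n) (α : MulAut G) :
    ∃ g, MulAut.conj g * α ∈ Fr D := by
  obtain ⟨g, hg⟩ := exists_conj_apply hK D α
  -- `β = g⁻¹ α` fixes `U`
  obtain ⟨β, hβ⟩ : ∃ β : MulAut G, β = MulAut.conj g⁻¹ * α := ⟨_, rfl⟩
  have hβa : ∀ x, β x = g⁻¹ * α x * g := by
    intro x
    rw [hβ, MulAut.mul_apply, MulAut.conj_apply, inv_inv]
  have hβU : ∀ x, β x ∈ uSub D ↔ x ∈ uSub D := by
    intro x
    rw [hβa]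
    exact hg x
  -- the image of `U^n`
  obtain ⟨k, hk⟩ := exists_conj_apply hK D (β * MulAut.conj n)
  have hk' : ∀ x, k⁻¹ * β (n * x * n) * k ∈ uSub D ↔ x ∈ uSub D := by
    intro x
    rw [← hk x, MulAut.mul_apply, MulAut.conj_apply, D.n_inv]
  have hkb : k ∉ bSub D := by
    intro hkb
    have h1 : ∀ x, k⁻¹ * x * k ∈ uSub D ↔ x ∈ uSub D := by
      intro x
      constructor
      · intro hx
        have := conj_mem_uSub D hkb hx
        have e : k * (k⁻¹ * x * k) * k⁻¹ = x := by group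
        rwa [e] at this
      · intro hx
        have := conj_mem_uSub D (inv_mem hkb) hx
        rwa [inv_inv] at this
    have h2 : ∀ x, n * x * n ∈ uSub D ↔ x ∈ uSub D := by
      intro x
      rw [← hβU, ← h1, hk']
    have h3 : n ∈ bSub D := by
      refine mem_bSub_of_norm D fun x hx => ?_
      rw [D.n_inv]
      exact (h2 x).2 hx
    obtain ⟨t, u, v, a, h4⟩ := h3
    refine D.ne t u v a 0 0 0 1 0 0 0 ?_
    rw [← h4, D.U_zero, D.h_one, mul_one, one_mul]
    exact (one_mul n).symm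
  rcases D.bruhat k with hb | ⟨t, u, v, a, t', u', v', h5⟩
  · exact absurd hb hkb
  · obtain ⟨x0, hx0⟩ : ∃ x0, x0 = U t u v := ⟨_, rfl⟩
    have hx0U : x0 ∈ uSub D := ⟨_, _, _, hx0⟩
    obtain ⟨b0, hb0⟩ : ∃ b0, b0 = U t' u' v' := ⟨_, rfl⟩
    have hb0U : b0 ∈ uSub D := ⟨_, _, _, hb0⟩
    have hkeq : k = x0 * n * (h a⁻¹ * b0) := by
      rw [h5, hx0, hb0, ← mul_assoc, mul_assoc _ n (h a⁻¹), D.n_h, inv_inv]
      group
    have hcB : h a⁻¹ * b0 ∈ bSub D := by
      refine mul_mem ⟨0, 0, 0, a⁻¹, by rw [D.U_zero, one_mul]⟩ (uSub_le_bSub D hb0U)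
    have h1 : ∀ c ∈ bSub D, ∀ x, c⁻¹ * x * c ∈ uSub D ↔ x ∈ uSub D := by
      intro c hc x
      constructor
      · intro hx
        have := conj_mem_uSub D hc hx
        have e : c * (c⁻¹ * x * c) * c⁻¹ = x := by group
        rwa [e] at this
      · intro hx
        have := conj_mem_uSub D (inv_mem hc) hx
        rwa [inv_inv] at this
    refine ⟨x0⁻¹ * g⁻¹, ?_⟩
    have hγ : MulAut.conj (x0⁻¹ * g⁻¹) * α = MulAut.conj x0⁻¹ * β := by
      rw [map_mul, mul_assoc, hβ]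
    rw [hγ, mem_Fr]
    refine ⟨fun x => ?_, fun x => ?_⟩
    · rw [MulAut.mul_apply, MulAut.conj_apply, inv_inv, h1 _ (uSub_le_bSub D hx0U), hβU]
    · rw [MulAut.mul_apply, MulAut.conj_apply, inv_inv]
      have h6 := hk' (n * x * n)
      have e1 : n * (n * x * n) * n = (n * n) * x * (n * n) := by group
      rw [e1, D.n_n, one_mul, mul_one, hkeq] at h6
      have e2 : (x0 * n * (h a⁻¹ * b0))⁻¹ * β x * (x0 * n * (h a⁻¹ * b0)) =
          (h a⁻¹ * b0)⁻¹ * (n * (x0⁻¹ * β x * x0) * n) * (h a⁻¹ * b0) := by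
        rw [mul_inv_rev, mul_inv_rev x0, D.n_inv]
        group
      rw [e2, h1 _ hcB] at h6
      exact h6

/-! ### Rigidity -/

theorem three_eq_zero (hK : Fintype.card K = 3 ^ (2 * m + 1)) : (3 : K) = 0 := by
  have := charP_three hK
  exact_mod_cast CharP.cast_eq_zero K 3

theorem pow_add (hK : Fintype.card K = 3 ^ (2 * m + 1)) (x y : K) :
    (x + y) ^ (3 ^ (m + 1)) = x ^ (3 ^ (m + 1)) + y ^ (3 ^ (m + 1)) := by
  have := charP_three hK
  have : Fact (Nat.Prime 3) := ⟨Nat.prime_three⟩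
  exact add_pow_char_pow x y 3 (m + 1)

/-- the Frobenius power is not the identity -/
theorem exists_pow_ne (hm : 1 ≤ m) (hK : Fintype.card K = 3 ^ (2 * m + 1)) : ∃ t : K, t ^ (3 ^ (m + 1)) ≠ t := by
  by_contra hcon
  push Not at hcon
  have h1 : Fintype.card K ≤ 3 ^ (m + 1) := by
    classical
    have h2 : (Polynomial.X ^ (3 ^ (m + 1)) - Polynomial.X : Polynomial K) ≠ 0 := by
      have : 1 < 3 ^ (m + 1) := Nat.one_lt_pow (by omega) (by norm_num)
      exact FiniteField.X_pow_card_sub_X_ne_zero K this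
    have h3 : (Finset.univ : Finset K) ⊆ (Polynomial.X ^ (3 ^ (m + 1)) - Polynomial.X : Polynomial K).roots.toFinset := by
      intro x _
      rw [Multiset.mem_toFinset, Polynomial.mem_roots h2]
      simp [Polynomial.IsRoot, hcon x]
    have h4 := Finset.card_le_card h3
    rw [Finset.card_univ] at h4
    refine h4.trans ((Multiset.toFinset_card_le _).trans ((Polynomial.card_roots' _).trans ?_))
    have : 1 < 3 ^ (m + 1) := Nat.one_lt_pow (by omega) (by norm_num)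
    rw [FiniteField.X_pow_card_sub_X_natDegree_eq K this]
  rw [hK] at h1
  have := (Nat.pow_le_pow_iff_right (by norm_num : 1 < 3)).1 h1
  omega

theorem U_split (D : Data m U h n) (t u v : K) : U t u v = U t 0 0 * U 0 u v := by
  rw [D.U_mul]
  congr 1 <;> simp

theorem U_split' (D : Data m U h n) (u v : K) : U 0 u v = U 0 u 0 * U 0 0 v := by
  rw [D.U_mul]
  congr 1 <;> simp

theorem U_add0 (D : Data m U h n) (t u v u' v' : K) : U t u v * U 0 u' v' = U t (u + u') (v + v') := by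
  rw [D.U_mul]
  congr 1 <;> simp

theorem zero_of_cube (hK : Fintype.card K = 3 ^ (2 * m + 1)) (D : Data m U h n) {t u v : K} (h1 : U t u v ^ 3 = 1) :
    t = 0 := by
  rw [U_cube D hK, ← D.U_zero] at h1
  have h2 := (U_injective D h1).2.2
  rw [neg_eq_zero, ← _root_.pow_add] at h2
  exact eq_zero_of_pow_eq_zero h2

theorem cube_U0 (hK : Fintype.card K = 3 ^ (2 * m + 1)) (D : Data m U h n) (u v : K) : U 0 u v ^ 3 = 1 := by
  rw [U_cube D hK]
  simp [D.U_zero]

theorem h_U_inv (D : Data m U h n) (a : Kˣ) (t u v : K) : h a * U t u v * (h a)⁻¹ =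
    U ((a : K) ^ (3 ^ (m + 1)) * t) ((a : K) ^ (3 ^ (m + 1) + 3) * u)
      ((a : K) ^ (2 * 3 ^ (m + 1) + 3) * v) := by
  rw [D.h_U, mul_inv_cancel_right]

/-- every nonzero element is a `2 σ + 3`-rd power -/
theorem exists_pow_c (hK : Fintype.card K = 3 ^ (2 * m + 1)) {w : K} (hw : w ≠ 0) :
    ∃ a : Kˣ, (a : K) ^ (2 * 3 ^ (m + 1) + 3) = w := by
  have h1 : Function.Injective (powMonoidHom (2 * 3 ^ (m + 1) + 3) : Kˣ →* Kˣ) := by
    rw [injective_iff_map_eq_one]
    intro a ha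
    exact ReeThree.one_of_pow_c hK a ha
  obtain ⟨a, ha⟩ := (Finite.injective_iff_surjective.1 h1) (Units.mk0 w hw)
  refine ⟨a, ?_⟩
  rw [← Units.val_pow_eq_pow_val]
  exact congrArg Units.val ha

theorem exists_pow_a (hK : Fintype.card K = 3 ^ (2 * m + 1)) (w : Kˣ) : ∃ a : Kˣ, a ^ (3 ^ (m + 1)) = w := by
  have h1 : Function.Injective (powMonoidHom (3 ^ (m + 1)) : Kˣ →* Kˣ) := by
    rw [injective_iff_map_eq_one]
    intro a ha
    exact ReeThree.one_of_pow_a hK a ha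
  exact (Finite.injective_iff_surjective.1 h1) w

/-- An additive map commuting with the multiplications by `a ^ (σ + 3)` and vanishing somewhere outside `0` is zero. -/
theorem additive_zero (hK : Fintype.card K = 3 ^ (2 * m + 1)) (δ : K → K) (hadd : ∀ x y, δ (x + y) = δ x + δ y)
    (hmul : ∀ (a : Kˣ) x, δ ((a : K) ^ (3 ^ (m + 1) + 3) * x) = (a : K) ^ (3 ^ (m + 1) + 3) * δ x)
    {x0 : K} (hx0 : x0 ≠ 0) (hδ : δ x0 = 0) : ∀ x, δ x = 0 := by
  classical
  -- squares are `σ + 3`-rd powers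
  have hsq : ∀ b : Kˣ, ∃ a : Kˣ, a ^ (3 ^ (m + 1) + 3) = b ^ 2 := by
    -- `σ + 3 = 3 (3 ^ m + 1)`; the image of `a ↦ a ^ (σ + 3)` has index two
    intro b
    obtain ⟨φ, hφ⟩ : ∃ φ : Kˣ →* Kˣ, φ = powMonoidHom (3 ^ (m + 1) + 3) := ⟨_, rfl⟩
    have hφa : ∀ a, φ a = a ^ (3 ^ (m + 1) + 3) := fun a => by rw [hφ]; rfl
    have h2 : φ.ker.index ∣ Nat.card Kˣ := Subgroup.index_dvd_card _
    have h3 : Nat.card φ.ker ≤ 2 := by
      have h4 : (φ.ker : Set Kˣ) ⊆ ({1, -1} : Finset Kˣ) := by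
        intro a ha
        have := ReeThree.sq_of_pow_b hK a (by rw [← hφa]; exact ha)
        simpa using this
      have h5 : Nat.card φ.ker ≤ Nat.card ({1, -1} : Finset Kˣ) := by
        refine Nat.card_le_card_of_injective (fun a => ⟨a.1, h4 a.2⟩) ?_
        intro a b hab
        exact Subtype.ext (congrArg (fun z => z.1) hab)
      refine h5.trans ?_
      rw [Nat.card_eq_fintype_card, Fintype.card_coe]
      exact Finset.card_le_two
    have h6 : Nat.card φ.ker * φ.ker.index = Nat.card Kˣ := φ.ker.card_mul_index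
    have h7 : φ.ker.index = Nat.card φ.range := Subgroup.index_ker φ
    have h8 : Nat.card φ.range * φ.range.index = Nat.card Kˣ := φ.range.card_mul_index
    have h9 : φ.range.index = Nat.card φ.ker := by
      have hpos : 0 < Nat.card φ.range := Nat.card_pos
      rw [h7, mul_comm] at h6
      exact Nat.eq_of_mul_eq_mul_left hpos (h8.trans h6.symm)
    have h10 : b ^ 2 ∈ φ.range := by
      have h11 : φ.range.index ∣ 2 := by
        rw [h9]
        have : Nat.card φ.ker ≠ 0 := Nat.card_pos.ne'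
        interval_cases (Nat.card φ.ker) <;> simp_all
      obtain ⟨c, hc⟩ := h11
      rw [hc, pow_mul]
      exact pow_mem (Subgroup.pow_index_mem φ.range b) _
    obtain ⟨a, ha⟩ := h10
    exact ⟨a, by rw [← hφa, ha]⟩
  have hsq' : ∀ (b x : K), δ (b ^ 2 * x) = b ^ 2 * δ x := by
    intro b x
    by_cases hb : b = 0
    · have h0 : δ 0 = 0 := by simpa using hadd 0 0
      rw [hb]
      simp [h0]
    · obtain ⟨a, ha⟩ := hsq (Units.mk0 b hb)
      have ha' : (a : K) ^ (3 ^ (m + 1) + 3) = b ^ 2 := by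
        rw [← Units.val_pow_eq_pow_val, ha, Units.val_pow_eq_pow_val, Units.val_mk0]
      rw [← ha', hmul]
  have hneg : ∀ x, δ (-x) = - δ x := by
    intro x
    have h0 : δ 0 = 0 := by simpa using hadd 0 0
    have := hadd x (-x)
    rw [add_neg_cancel, h0] at this
    exact (neg_eq_of_add_eq_zero_right this.symm).symm
  -- `4 b x = ((b + 1) ^ 2 - (b - 1) ^ 2) x`
  have h3 := three_eq_zero hK
  intro x
  obtain ⟨b, rfl⟩ : ∃ b, x = b * x0 := ⟨x / x0, by field_simp⟩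
  have e : b * x0 = (b + 1) ^ 2 * x0 + -((b - 1) ^ 2 * x0) := by
    linear_combination (-b * x0) * h3
  rw [e, hadd, hneg, hsq', hsq', hδ]
  simp

/-- **Rigidity on `U`.** -/
theorem rigid_U (hm : 1 ≤ m) (hK : Fintype.card K = 3 ^ (2 * m + 1)) (D : Data m U h n) {β : MulAut G}
    (hβ : ∀ x, β x ∈ uSub D ↔ x ∈ uSub D) (h1 : ∀ t, ∃ g k, β (U t 0 0) = U t g k) (h2 : ∀ a, β (h a) = h a) :
    ∀ t u v, β (U t u v) = U t u v := by
  have h3 := three_eq_zero hK
  have hconj : ∀ (a : Kˣ) x, β (h a * x * (h a)⁻¹) = h a * β x * (h a)⁻¹ := by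
    intro a x
    rw [map_mul, map_mul, map_inv, h2]
  -- the centre
  have hz1 : β (U 0 0 1) = U 0 0 1 := by
    obtain ⟨g, k, h4⟩ := h1 (-1)
    have h5 : ∀ u v, U (-1) u v ^ 3 = U 0 0 1 := by
      intro u v
      rw [U_cube D hK, (odd_three_pow (m + 1)).neg_one_pow]
      congr 1
      norm_num
    rw [← h5 0 0, map_pow, h4, h5, h5]
  have hz : ∀ w, β (U 0 0 w) = U 0 0 w := by
    intro w
    by_cases hw : w = 0
    · rw [hw, D.U_zero, map_one]
    · obtain ⟨a, ha⟩ := exists_pow_c hK hw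
      have h4 := h_U_inv D a 0 0 1
      rw [mul_zero, mul_zero, mul_one, ha] at h4
      rw [← h4, hconj, hz1]
  -- `Ω₁(U)`
  have hu : ∀ u, ∃ u', β (U 0 u 0) = U 0 u' 0 := by
    intro u
    obtain ⟨t', u', v', h4⟩ := (hβ (U 0 u 0)).2 ⟨_, _, _, rfl⟩
    have h5 : t' = 0 := by
      apply zero_of_cube hK D (t := t') (u := u') (v := v')
      rw [← h4, ← map_pow, cube_U0 hK D, map_one]
    subst h5
    have h6 := hconj (-1) (U 0 u 0)
    rw [D.inv_mul_U, mul_inv_cancel_right, neg_zero, h4, D.inv_mul_U, mul_inv_cancel_right] at h6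
    have h7 := (U_injective D h6).2.2
    have h8 : v' = 0 := D.neg_eq_self hK h7.symm
    exact ⟨u', by rw [h4, h8]⟩
  choose l hl using hu
  have hladd : ∀ x y, l (x + y) = l x + l y := by
    intro x y
    have h4 : U 0 (x + y) 0 = U 0 x 0 * U 0 y 0 := by rw [U_add0 D, add_zero]
    have h5 := congrArg β h4
    rw [map_mul, hl, hl, hl, U_add0 D] at h5
    exact (U_injective D h5).2.1
  have hlmul : ∀ (a : Kˣ) x, l ((a : K) ^ (3 ^ (m + 1) + 3) * x) = (a : K) ^ (3 ^ (m + 1) + 3) * l x := by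
    intro a x
    have h4 := hconj a (U 0 x 0)
    rw [h_U_inv D, hl, h_U_inv D, mul_zero, mul_zero, hl] at h4
    exact (U_injective D h4).2.1
  choose g k hg using h1
  -- `g (-t) = g t`
  have hgneg : ∀ t, g (-t) = g t := by
    intro t
    have h4 := hconj (-1) (U t 0 0)
    rw [D.inv_mul_U, mul_inv_cancel_right, hg, D.inv_mul_U, mul_inv_cancel_right, neg_zero, hg] at h4
    exact (U_injective D h4).2.1
  -- the multiplication
  have hmul : ∀ t t', g t + g t' - t * t' ^ (3 ^ (m + 1)) = g (t + t') - l (t * t' ^ (3 ^ (m + 1))) := by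
    intro t t'
    have h4 : U t 0 0 * U t' 0 0 = U (t + t') 0 0 * (U 0 (-(t * t' ^ (3 ^ (m + 1)))) 0 *
        U 0 0 (0 + 0 - 0 * t' - t ^ 2 * t' ^ (3 ^ (m + 1)) + t * t' * t' ^ (3 ^ (m + 1)))) := by
      rw [← U_split' D, ← U_split D, D.U_mul]
      congr 1
      ring
    have h5 := congrArg β h4
    have hlneg : ∀ x, l (-x) = - l x := by
      intro x
      have h0 : l 0 = 0 := by simpa using hladd 0 0
      have := hladd x (-x)
      rw [add_neg_cancel, h0] at this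
      exact (neg_eq_of_add_eq_zero_right this.symm).symm
    rw [map_mul, map_mul, map_mul, hg, hg, hg, hl, hz, hlneg, D.U_mul, ← U_split' D, U_add0 D] at h5
    have h6 := (U_injective D h5).2.1
    linear_combination h6
  have hδ : ∀ x, l x = x := by
    obtain ⟨t, ht⟩ := exists_pow_ne hm hK
    have h4 := additive_zero hK (fun x => l x - x) (by intro x y; simp only [hladd]; ring)
      (by intro a x; simp only [hlmul]; ring) (x0 := t ^ (3 ^ (m + 1)) - t) (sub_ne_zero.2 ht) (by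
        have h5 := hmul 1 t
        have h6 := hmul t 1
        rw [one_mul, add_comm (1 : K) t] at h5
        rw [one_pow, mul_one] at h6
        have h7 : l (t ^ (3 ^ (m + 1)) - t) = l (t ^ (3 ^ (m + 1))) - l t := by
          have := hladd (t ^ (3 ^ (m + 1)) - t) t
          rw [sub_add_cancel] at this
          linear_combination -this
        show l (t ^ (3 ^ (m + 1)) - t) - (t ^ (3 ^ (m + 1)) - t) = 0
        rw [h7]
        linear_combination h5 - h6)
    intro x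
    exact sub_eq_zero.1 (h4 x)
  have hgz : ∀ t, g t = 0 := by
    intro t
    have h4 := hmul t (-t)
    have h0 : g 0 = 0 := by
      have := hmul 0 0
      rw [add_zero, zero_mul, hδ] at this
      linear_combination this
    rw [add_neg_cancel, h0, hgneg, hδ] at h4
    -- `2 g t = 0`
    linear_combination -h4 + g t * h3
  have hfix0 : ∀ u v, β (U 0 u v) = U 0 u v := by
    intro u v
    rw [U_split' D, map_mul, hl, hz, hδ]
  have hkadd : ∀ t t', k (t + t') = k t + k t' := by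
    intro t t'
    have h4 : U t 0 0 * U t' 0 0 = U (t + t') 0 0 * U 0 (-(t * t' ^ (3 ^ (m + 1))))
        (- t ^ 2 * t' ^ (3 ^ (m + 1)) + t * t' * t' ^ (3 ^ (m + 1))) := by
      rw [← U_split D, D.U_mul]
      congr 1 <;> ring
    have h5 := congrArg β h4
    rw [map_mul, map_mul, hg, hg, hg, hfix0, hgz, hgz, hgz, D.U_mul, U_add0 D] at h5
    have h6 := (U_injective D h5).2.2
    linear_combination -h6
  have hkmul : ∀ (a : Kˣ), k ((a : K) ^ (3 ^ (m + 1))) = (a : K) ^ (2 * 3 ^ (m + 1) + 3) * k 1 := by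
    intro a
    have h4 := hconj a (U 1 0 0)
    rw [h_U_inv D, hg, h_U_inv D, mul_zero, mul_zero, mul_one, hg] at h4
    exact (U_injective D h4).2.2
  have hk0 : k 0 = 0 := by simpa using hkadd 0 0
  have hkb : ∀ b : K, k b = b ^ 2 * b ^ (3 ^ (m + 1)) * k 1 := by
    intro b
    by_cases hb : b = 0
    · rw [hb, hk0]
      ring
    · obtain ⟨a, ha⟩ := exists_pow_a hK (Units.mk0 b hb)
      have ha' : (a : K) ^ (3 ^ (m + 1)) = b := by
        rw [← Units.val_pow_eq_pow_val, ha, Units.val_mk0]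
      rw [← ha', hkmul]
      have h4 : ((a : K) ^ (3 ^ (m + 1))) ^ (3 ^ (m + 1)) = (a : K) ^ 3 := by
        have h5 : 3 ^ (m + 1) * 3 ^ (m + 1) = 3 ^ (2 * m + 1) * 3 := by ring
        rw [← pow_mul, h5, pow_mul, ← hK, FiniteField.pow_card]
      rw [h4, mul_comm 2 (3 ^ (m + 1)), _root_.pow_add, pow_mul]
  have hkz : k 1 = 0 := by
    by_contra hne
    have h4 : ∀ b : K, b ^ (3 ^ (m + 1)) = b := by
      intro b
      have h5 := hkadd b 1
      rw [hkb b, hkb (b + 1), pow_add hK, one_pow] at h5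
      have h6 : ((b - 1) * (b - b ^ (3 ^ (m + 1)))) * k 1 = 0 := by
        linear_combination h5 - (b * b ^ (3 ^ (m + 1)) + b) * k 1 * h3
      rcases mul_eq_zero.1 h6 with h7 | h7
      · rcases mul_eq_zero.1 h7 with h8 | h8
        · rw [sub_eq_zero.1 h8, one_pow]
        · exact (sub_eq_zero.1 h8).symm
      · exact absurd h7 hne
    obtain ⟨t, ht⟩ := exists_pow_ne hm hK
    exact ht (h4 t)
  intro t u v
  rw [U_split D, map_mul, hg, hfix0, hgz, hkb, hkz, mul_zero]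

/-- **Rigidity.** -/
theorem rigid (hm : 1 ≤ m) (hK : Fintype.card K = 3 ^ (2 * m + 1)) (D : Data m U h n) {β : MulAut G}
    (hβ : β ∈ Fr D) (h1 : ∀ t, ∃ g k, β (U t 0 0) = U t g k) (h2 : ∀ a, β (h a) = h a) : β = 1 := by
  obtain ⟨hβ1, hβ2⟩ := (mem_Fr D).1 hβ
  have hU := rigid_U hm hK D hβ1 h1 h2
  -- the image of `n`
  have hnn : β n * β n = 1 := by rw [← map_mul, D.n_n, map_one]
  have hninv : (β n)⁻¹ = β n := inv_eq_of_mul_eq_one_right hnn
  have hmem : n * β n ∈ hSub D := by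
    refine mem_hSub_of_norm D (fun x => ?_) (fun x => ?_)
    · have e : (n * β n)⁻¹ * x * (n * β n) = β (n * β⁻¹ (n * x * n) * n) := by
        rw [mul_inv_rev, hninv, D.n_inv, map_mul, map_mul, MulAut.apply_inv_self]
        group
      rw [e, hβ1, ← hβ2, MulAut.apply_inv_self]
      have e1 : n * (n * x * n) * n = (n * n) * x * (n * n) := by group
      rw [e1, D.n_n, one_mul, mul_one]
    · have e : n * ((n * β n)⁻¹ * x * (n * β n)) * n = n * β (n * β⁻¹ (n * x * n) * n) * n := by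
        rw [mul_inv_rev, hninv, D.n_inv, map_mul, map_mul, MulAut.apply_inv_self]
        group
      rw [e, hβ2]
      have e1 : n * (n * β⁻¹ (n * x * n) * n) * n = (n * n) * β⁻¹ (n * x * n) * (n * n) := by group
      rw [e1, D.n_n, one_mul, mul_one, ← hβ1, MulAut.apply_inv_self]
  obtain ⟨b, hb⟩ := hmem
  have hb' : β n = n * h b := by
    rw [← hb, ← mul_assoc, D.n_n, one_mul]
  have h4 := congrArg β D.n_U
  rw [map_mul, map_mul, map_mul, map_mul, hU, hU, hb'] at h4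
  -- compare normal forms
  have h5 : n * h b * U 0 1 0 * (n * h b) = n * U 0 ((b : K) ^ (3 ^ (m + 1) + 3)) 0 * n := by
    calc n * h b * U 0 1 0 * (n * h b) = n * (h b * U 0 1 0) * (n * h b) := by group
      _ = n * (U 0 ((b : K) ^ (3 ^ (m + 1) + 3)) 0 * h b) * (n * h b) := by
        rw [D.h_U, mul_zero, mul_zero, mul_one]
      _ = n * U 0 ((b : K) ^ (3 ^ (m + 1) + 3)) 0 * (h b * n) * h b := by group
      _ = n * U 0 ((b : K) ^ (3 ^ (m + 1) + 3)) 0 * n := by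
        have e : h b * n = n * h b⁻¹ := by rw [D.n_h, inv_inv]
        rw [e, D.h_inv]
        group
  have h6 : n * U 0 ((b : K) ^ (3 ^ (m + 1) + 3)) 0 * n =
      h b⁻¹ * (n * U 0 1 0 * n) * h b := by
    have e : U 0 ((b : K) ^ (3 ^ (m + 1) + 3)) 0 = h b * U 0 1 0 * (h b)⁻¹ := by
      rw [h_U_inv D, mul_zero, mul_zero, mul_one]
    have e1 : (h b)⁻¹ * n = n * h b := by
      rw [← D.h_inv, D.n_h]
    rw [e]
    calc n * (h b * U 0 1 0 * (h b)⁻¹) * n = (n * h b) * U 0 1 0 * ((h b)⁻¹ * n) := by group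
      _ = (h b⁻¹ * n) * U 0 1 0 * (n * h b) := by rw [e1, D.n_h]
      _ = _ := by group
  rw [h5, h6, D.n_U] at h4
  have h7 : h b⁻¹ * (U 0 (-1) 0 * n * U 0 (-1) 0) * h b =
      U 0 ((b⁻¹ : Kˣ) ^ (3 ^ (m + 1) + 3) * (-1)) 0 * h (b⁻¹ * b⁻¹) * n *
        U 0 ((b⁻¹ : Kˣ) ^ (3 ^ (m + 1) + 3) * (-1)) 0 := by
    have e : U 0 (-1) 0 * h b = h b * U 0 (((b⁻¹ : Kˣ) : K) ^ (3 ^ (m + 1) + 3) * (-1)) 0 := by
      have := h_U_inv D b⁻¹ 0 (-1) 0
      rw [mul_zero, mul_zero, D.h_inv, inv_inv] at this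
      rw [← this]
      group
    calc h b⁻¹ * (U 0 (-1) 0 * n * U 0 (-1) 0) * h b = (h b⁻¹ * U 0 (-1) 0) * n * (U 0 (-1) 0 * h b) := by group
      _ = (U 0 (((b⁻¹ : Kˣ) : K) ^ (3 ^ (m + 1) + 3) * (-1)) 0 * h b⁻¹) * n *
          (h b * U 0 (((b⁻¹ : Kˣ) : K) ^ (3 ^ (m + 1) + 3) * (-1)) 0) := by
        rw [e, D.h_U, mul_zero, mul_zero]
      _ = U 0 (((b⁻¹ : Kˣ) : K) ^ (3 ^ (m + 1) + 3) * (-1)) 0 * h b⁻¹ * (n * h b) *
          U 0 (((b⁻¹ : Kˣ) : K) ^ (3 ^ (m + 1) + 3) * (-1)) 0 := by group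
      _ = _ := by
        rw [D.n_h, D.h_mul]
        push_cast
        group
  have h8 : U 0 (-1) 0 * (n * h b) * U 0 (-1) 0 = U 0 (-1) 0 * h b⁻¹ * n * U 0 (-1) 0 := by
    rw [D.n_h]
    group
  rw [h7, h8] at h4
  obtain ⟨-, -, -, h9, -⟩ := D.inj₂ _ _ _ _ _ _ _ _ _ _ _ _ _ _ h4
  have hb1 : b = 1 := by
    have : b⁻¹ = 1 := mul_eq_left.1 h9
    exact inv_eq_one.1 this
  have hn : β n = n := by rw [hb', hb1, D.h_one, mul_one]
  ext x
  rw [MulAut.one_apply]
  rcases D.bruhat x with ⟨t, u, v, a, rfl⟩ | ⟨t, u, v, a, t', u', v', rfl⟩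
  · rw [map_mul, hU, h2]
  · rw [map_mul, map_mul, map_mul, hU, h2, hn, hU]

/-! ### The frame group -/

/-- The field automorphisms of the group. -/
structure Fld (D : Data m U h n) (Φ : (K ≃+* K) → MulAut G) : Prop where
  onU : ∀ τ t u v, Φ τ (U t u v) = U (τ t) (τ u) (τ v)
  onH : ∀ (τ : K ≃+* K) a, Φ τ (h a) = h (Units.mapEquiv τ.toMulEquiv a)
  onN : ∀ τ, Φ τ n = n

theorem Fld.mem {D : Data m U h n} {Φ : (K ≃+* K) → MulAut G} (F : Fld D Φ) (τ : K ≃+* K) : Φ τ ∈ Fr D := by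
  have h1 : ∀ x, Φ τ x ∈ uSub D ↔ x ∈ uSub D := by
    intro x
    constructor
    · rintro ⟨t, u, v, hx⟩
      refine ⟨τ.symm t, τ.symm u, τ.symm v, (Φ τ).injective ?_⟩
      rw [hx, F.onU, τ.apply_symm_apply, τ.apply_symm_apply, τ.apply_symm_apply]
    · rintro ⟨t, u, v, rfl⟩
      exact ⟨_, _, _, F.onU _ _ _ _⟩
  rw [mem_Fr]
  refine ⟨h1, fun x => ?_⟩
  rw [← h1 (n * x * n), map_mul, map_mul, F.onN]

/-- **The frame automorphisms.** -/
theorem exists_of_frame (hm : 1 ≤ m) (hK : Fintype.card K = 3 ^ (2 * m + 1)) {D : Data m U h n}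
    {Φ : (K ≃+* K) → MulAut G} (F : Fld D Φ) {α : MulAut G} (hα : α ∈ Fr D) :
    ∃ (a : Kˣ) (τ : K ≃+* K), α = MulAut.conj (h a) * Φ τ := by
  -- the action on `H`
  have hs : ∀ a, ∃ b, α (h a) = h b := by
    intro a
    have h1 : MulAut.conj (α (h a)) ∈ Fr D := by
      have e : MulAut.conj (α (h a)) = α * MulAut.conj (h a) * α⁻¹ := by
        ext x
        simp only [MulAut.mul_apply, MulAut.conj_apply, map_mul, map_inv, MulAut.apply_inv_self]
      rw [e]
      exact mul_mem (mul_mem hα (conj_h_mem D a)) (inv_mem hα)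
    rw [conj_mem_iff] at h1
    exact h1
  choose s hs using hs
  have hsmul : ∀ a b, s (a * b) = s a * s b := by
    intro a b
    apply h_injective D
    rw [← hs, D.h_mul, map_mul, hs, hs, D.h_mul]
  -- the action on `U`
  have hf : ∀ t, ∃ t' g k, α (U t 0 0) = U t' g k := fun t => (hα.1 _).2 ⟨_, _, _, rfl⟩
  choose f g k hf using hf
  have h0 : ∀ u v, ∃ u' v', α (U 0 u v) = U 0 u' v' := by
    intro u v
    obtain ⟨t', u', v', h4⟩ := (hα.1 (U 0 u v)).2 ⟨_, _, _, rfl⟩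
    have h5 : t' = 0 := by
      apply zero_of_cube hK D (t := t') (u := u') (v := v')
      rw [← h4, ← map_pow, cube_U0 hK D, map_one]
    subst h5
    exact ⟨u', v', h4⟩
  have hfull : ∀ t u v, ∃ u' v', α (U t u v) = U (f t) u' v' := by
    intro t u v
    obtain ⟨u', v', h1⟩ := h0 u v
    exact ⟨_, _, by rw [U_split D, map_mul, hf, h1, U_add0 D]⟩
  have hfadd : ∀ t t', f (t + t') = f t + f t' := by
    intro t t'
    have h1 := D.U_mul t 0 0 t' 0 0
    have h2 := congrArg α h1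
    obtain ⟨u', v', h3⟩ := hfull (t + t') (0 + 0 - t * t' ^ 3 ^ (m + 1))
      (0 + 0 - 0 * t' - t ^ 2 * t' ^ 3 ^ (m + 1) + t * t' * t' ^ 3 ^ (m + 1))
    rw [map_mul, hf, hf, D.U_mul, h3] at h2
    exact (U_injective D h2).1.symm
  have hfsmul : ∀ (a : Kˣ) t, f ((a : K) ^ (3 ^ (m + 1)) * t) = ((s a : Kˣ) : K) ^ (3 ^ (m + 1)) * f t := by
    intro a t
    have h1 := congrArg α (h_U_inv D a t 0 0)
    rw [mul_zero, mul_zero, map_mul, map_mul, map_inv, hs, hf, hf, h_U_inv D] at h1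
    exact (U_injective D h1).1.symm
  have hf0 : f 0 = 0 := by simpa using hfadd 0 0
  have hfinj : ∀ t, f t = 0 → t = 0 := by
    intro t ht
    apply zero_of_cube hK D (t := t) (u := 0) (v := 0)
    apply α.injective
    rw [map_pow, hf, ht, cube_U0 hK D, map_one]
  have hf1 : f 1 ≠ 0 := fun h1 => one_ne_zero (hfinj 1 h1)
  obtain ⟨c, hc⟩ := exists_pow_a hK (Units.mk0 (f 1) hf1)
  have hc' : (c : K) ^ (3 ^ (m + 1)) = f 1 := by
    rw [← Units.val_pow_eq_pow_val, hc, Units.val_mk0]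
  -- the field automorphism
  have hτmul : ∀ x y, (f 1)⁻¹ * f (x * y) = ((f 1)⁻¹ * f x) * ((f 1)⁻¹ * f y) := by
    intro x y
    by_cases hx : x = 0
    · rw [hx, zero_mul, hf0]
      ring
    · obtain ⟨a, ha⟩ := exists_pow_a hK (Units.mk0 x hx)
      have ha' : (a : K) ^ (3 ^ (m + 1)) = x := by
        rw [← Units.val_pow_eq_pow_val, ha, Units.val_mk0]
      have h1 := hfsmul a 1
      rw [mul_one, ha'] at h1
      have h2 := hfsmul a y
      rw [ha'] at h2
      rw [h1, h2]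
      field_simp
  obtain ⟨τ0, hτ0⟩ : ∃ τ0 : K →+* K, ∀ x, τ0 x = (f 1)⁻¹ * f x :=
    ⟨{ toFun := fun x => (f 1)⁻¹ * f x
       map_one' := inv_mul_cancel₀ hf1
       map_mul' := hτmul
       map_zero' := by
        show (f 1)⁻¹ * f 0 = 0
        rw [hf0, mul_zero]
       map_add' := fun x y => by rw [hfadd, mul_add] }, fun x => rfl⟩
  have hbij : Function.Bijective τ0 := Finite.injective_iff_bijective.1 τ0.injective
  obtain ⟨τ, hτ⟩ : ∃ τ : K ≃+* K, ∀ x, τ x = (f 1)⁻¹ * f x := ⟨RingEquiv.ofBijective τ0 hbij, hτ0⟩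
  refine ⟨c, τ, ?_⟩
  obtain ⟨β, hβ⟩ : ∃ β, β = (MulAut.conj (h c) * Φ τ)⁻¹ * α := ⟨_, rfl⟩
  have hβm : β ∈ Fr D := by
    rw [hβ]
    exact mul_mem (inv_mem (mul_mem (conj_h_mem D c) (F.mem τ))) hα
  have hγ : ∀ t u v, (MulAut.conj (h c) * Φ τ) (U t u v) = U (f t) ((c : K) ^ (3 ^ (m + 1) + 3) * τ u)
      ((c : K) ^ (2 * 3 ^ (m + 1) + 3) * τ v) := by
    intro t u v
    rw [MulAut.mul_apply, F.onU, MulAut.conj_apply, h_U_inv D, hc', hτ, mul_inv_cancel_left₀ hf1]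
  have hfs : ∀ t, ∃ t', t = f t' := by
    intro t
    obtain ⟨t', h1⟩ := hbij.2 ((f 1)⁻¹ * t)
    rw [hτ0] at h1
    exact ⟨t', (mul_left_cancel₀ (inv_ne_zero hf1) h1).symm⟩
  have h1 : ∀ t, ∃ g k, β (U t 0 0) = U t g k := by
    intro t
    have hγi : ∀ t u v, ∃ u' v', (MulAut.conj (h c) * Φ τ)⁻¹ (U (f t) u v) = U t u' v' := by
      intro t u v
      refine ⟨τ.symm (((c : K) ^ (3 ^ (m + 1) + 3))⁻¹ * u), τ.symm (((c : K) ^ (2 * 3 ^ (m + 1) + 3))⁻¹ * v), ?_⟩
      apply (MulAut.conj (h c) * Φ τ).injective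
      rw [MulAut.apply_inv_self, hγ, τ.apply_symm_apply, τ.apply_symm_apply,
        mul_inv_cancel_left₀ (pow_ne_zero _ c.ne_zero), mul_inv_cancel_left₀ (pow_ne_zero _ c.ne_zero)]
    rw [hβ, MulAut.mul_apply, hf]
    exact hγi _ _ _
  have h2 : ∀ a, β (h a) = h a := by
    intro a
    have h3 : (MulAut.conj (h c) * Φ τ) (h a) = α (h a) := by
      rw [MulAut.mul_apply, F.onH, MulAut.conj_apply, D.h_comm, mul_inv_cancel_right, hs]
      congr 1
      have h4 : (Units.mapEquiv τ.toMulEquiv a) ^ (3 ^ (m + 1)) = s a ^ (3 ^ (m + 1)) := by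
        ext
        have h5 := hfsmul a 1
        rw [mul_one] at h5
        have h6 : ((Units.mapEquiv τ.toMulEquiv a : Kˣ) : K) = τ a := rfl
        rw [Units.val_pow_eq_pow_val, Units.val_pow_eq_pow_val, h6, ← map_pow, hτ, h5]
        field_simp
      have h7 : (Units.mapEquiv τ.toMulEquiv a * (s a)⁻¹) ^ (3 ^ (m + 1)) = 1 := by
        rw [mul_pow, inv_pow, h4, mul_inv_cancel]
      exact mul_inv_eq_one.1 (ReeThree.one_of_pow_a hK _ h7)
    rw [hβ, MulAut.mul_apply, ← h3, MulAut.inv_apply_self]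
  have h3 := rigid hm hK D hβm h1 h2
  rw [hβ] at h3
  exact (inv_mul_eq_one.1 h3).symm

theorem card_Fr (hm : 1 ≤ m) (hK : Fintype.card K = 3 ^ (2 * m + 1)) {D : Data m U h n}
    {Φ : (K ≃+* K) → MulAut G} (F : Fld D Φ) : Nat.card (Fr D) = (Fintype.card K - 1) * (2 * m + 1) := by
  have : Fact (Nat.Prime 3) := ⟨Nat.prime_three⟩
  let j : Kˣ × (K ≃+* K) → Fr D := fun x => ⟨MulAut.conj (h x.1) * Φ x.2, mul_mem (conj_h_mem D _) (F.mem _)⟩
  have hj : Function.Bijective j := by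
    constructor
    · rintro ⟨a, τ⟩ ⟨b, ρ⟩ hab
      have e : ∀ t, (MulAut.conj (h a) * Φ τ) (U t 0 0) = (MulAut.conj (h b) * Φ ρ) (U t 0 0) := by
        intro t
        exact congrArg (fun z : Fr D => z.1 (U t 0 0)) hab
      simp only [MulAut.mul_apply, F.onU, MulAut.conj_apply, h_U_inv D] at e
      have e1 : ∀ t, (a : K) ^ (3 ^ (m + 1)) * τ t = (b : K) ^ (3 ^ (m + 1)) * ρ t :=
        fun t => (U_injective D (e t)).1
      have e2 := e1 1
      rw [map_one, map_one, mul_one, mul_one, ← Units.val_pow_eq_pow_val, ← Units.val_pow_eq_pow_val] at e2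
      have e3 : (a * b⁻¹) ^ (3 ^ (m + 1)) = 1 := by
        rw [mul_pow, inv_pow, Units.ext e2, mul_inv_cancel]
      have e4 : a = b := mul_inv_eq_one.1 (ReeThree.one_of_pow_a hK _ e3)
      subst e4
      have e5 : τ = ρ := by
        ext t
        exact mul_left_cancel₀ (pow_ne_zero _ a.ne_zero) (e1 t)
      rw [e5]
    · rintro ⟨α, hα⟩
      obtain ⟨a, τ, h1⟩ := exists_of_frame hm hK F hα
      exact ⟨(a, τ), Subtype.ext h1.symm⟩
  rw [← Nat.card_congr (Equiv.ofBijective j hj), Nat.card_prod, Nat.card_units, Nat.card_eq_fintype_card,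
    Cfsg.Agent.Lib.FieldAutCard.card_ringAut (by omega) hK]

/-- **The order of the outer automorphism group.** -/
theorem card_out (hm : 1 ≤ m) (hK : Fintype.card K = 3 ^ (2 * m + 1)) {D : Data m U h n}
    {Φ : (K ≃+* K) → MulAut G} (F : Fld D Φ) : Nat.card (Cfsg.Out G) = 2 * m + 1 := by
  have hfin : Finite G := finite D
  have h1 := card_out_of (Fr D) (hSub D) (exists_frame hK D) (conj_mem_iff D) (conj_eq_one D hK)
  rw [card_Fr hm hK F, card_hSub] at h1
  refine Nat.eq_of_mul_eq_mul_left ?_ h1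
  have : 1 < 3 ^ (2 * m + 1) := Nat.one_lt_pow (by omega) (by norm_num)
  rw [hK]
  omega

end Cfsg.Agent.H71.ReeOut
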