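import Cfsg.Agent.H166.Cov.Defs
set_option linter.all false

-- part: H71/CovScal
section
/-!
# Scalars as products of similar endomorphisms (helper71, task 747 for S2483)
-/

set_option autoImplicit false

namespace Cfsg.Agent.H71.CovScal

open Module Polynomial Cfsg.Agent.H166.Cov

universe u

variable {F : Type u} [Field F] {V W U : Type u} [AddCommGroup V] [Module F V]
  [AddCommGroup W] [Module F W] [AddCommGroup U] [Module F U]

/-! ### generalities on `Sim` and `HP` -/

theorem sim_refl (T : End F V) : Sim T T := ⟨LinearEquiv.refl F V, fun _ => rfl⟩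

theorem sim_symm {S : End F V} {T : End F W} (h : Sim S T) : Sim T S := by
  obtain ⟨e, he⟩ := h
  refine ⟨e.symm, fun x => ?_⟩
  apply e.injective
  rw [he, e.apply_symm_apply, e.apply_symm_apply]

theorem sim_trans {S : End F V} {T : End F W} {R : End F U} (h : Sim S T) (h' : Sim T R) : Sim S R := by
  obtain ⟨e, he⟩ := h
  obtain ⟨e', he'⟩ := h'
  exact ⟨e.trans e', fun x => by
    show e' (e (S x)) = R (e' (e x))
    rw [he, he']⟩

theorem sim_conj (e : V ≃ₗ[F] W) (T : End F V) : Sim T (e.conj T) :=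
  ⟨e, fun x => by rw [LinearEquiv.conj_apply_apply, e.symm_apply_apply]⟩

/-- direct sums -/
theorem sim_prodMap {V' W' : Type u} [AddCommGroup V'] [Module F V'] [AddCommGroup W'] [Module F W']
    {S : End F V} {T : End F W} {S' : End F V'} {T' : End F W'} (h : Sim S T) (h' : Sim S' T') :
    Sim (S.prodMap S') (T.prodMap T') := by
  obtain ⟨e, he⟩ := h
  obtain ⟨e', he'⟩ := h'
  refine ⟨e.prodCongr e', fun x => ?_⟩
  ext
  · exact he x.1
  · exact he' x.2

/-- change of the endomorphism -/
theorem hp_of_sim {T : End F V} {T' : End F U} (h : Sim T' T) {k : ℕ} {g : End F W} (hg : HP T k g) : HP T' k g := by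
  obtain ⟨L, h1, h2, h3⟩ := hg
  exact ⟨L, h1, fun A hA => sim_trans h (h2 A hA), h3⟩

/-- transport of the product -/
theorem hp_conj {T : End F V} {k : ℕ} {g : End F W} (hg : HP T k g) (e : W ≃ₗ[F] U) : HP T k (e.conj g) := by
  obtain ⟨L, h1, h2, h3⟩ := hg
  refine ⟨L.map fun A => e.conj A, by rw [List.length_map, h1], ?_, ?_⟩
  · intro A hA
    obtain ⟨B, hB, rfl⟩ := List.mem_map.1 hA
    exact sim_trans (h2 B hB) (sim_conj e B)
  · rw [← h3]
    have : ∀ L : List (End F W), (L.map fun A => e.conj A).prod = e.conj L.prod := by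
      intro L
      induction L with
      | nil => ext x; simp [Module.End.one_apply]
      | cons A L ih =>
        rw [List.map_cons, List.prod_cons, ih, List.prod_cons]
        ext x
        simp
    exact this L

theorem hp_scalar {T : End F V} {k : ℕ} {c : F} (hg : HP T k (c • (1 : End F W))) (e : W ≃ₗ[F] U) :
    HP T k (c • (1 : End F U)) := by
  have h := hp_conj hg e
  have h1 : e.conj (c • (1 : End F W)) = c • (1 : End F U) := by
    ext x
    simp [LinearEquiv.conj_apply_apply]
  rwa [h1] at h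

theorem hp_append {T : End F V} {k l : ℕ} {g h : End F W} (hg : HP T k g) (hh : HP T l h) : HP T (k + l) (g * h) := by
  obtain ⟨L, h1, h2, h3⟩ := hg
  obtain ⟨L', h1', h2', h3'⟩ := hh
  refine ⟨L ++ L', by rw [List.length_append, h1, h1'], ?_, by rw [List.prod_append, h3, h3']⟩
  intro A hA
  rcases List.mem_append.1 hA with hA | hA
  · exact h2 A hA
  · exact h2' A hA

theorem hp_one {T : End F V} {g : End F W} (h : Sim T g) : HP T 1 g :=
  ⟨[g], rfl, fun A hA => by rw [List.mem_singleton] at hA; rw [hA]; exact h, by simp⟩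

/-- a direct sum with a scalar -/
theorem hp_prodMap {T : End F V} {k : ℕ} {g : End F W} (hg : HP T k g) (S : End F U) :
    HP (T.prodMap S) k (g.prodMap (S ^ k)) := by
  obtain ⟨L, h1, h2, h3⟩ := hg
  refine ⟨L.map fun A => A.prodMap S, by rw [List.length_map, h1], ?_, ?_⟩
  · intro A hA
    obtain ⟨B, hB, rfl⟩ := List.mem_map.1 hA
    exact sim_prodMap (h2 B hB) (sim_refl S)
  · rw [← h3, ← h1]
    clear h1 h2 h3
    induction L with
    | nil => ext x <;> simp
    | cons A L ih =>
      rw [List.map_cons, List.prod_cons, ih, List.prod_cons, List.length_cons, pow_succ']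
      ext x <;> simp

/-! ### modules over a field `F[X]/(p)` -/

section irr

variable {p : F[X]}

/-- the action of `F[X]/(p)` on `V` -/
noncomputable def act {T : End F V} (hT : aeval T p = 0) : AdjoinRoot p →ₐ[F] End F V :=
  Ideal.Quotient.liftₐ (Ideal.span {p}) (aeval T) (fun a ha => by
    obtain ⟨b, rfl⟩ := Ideal.mem_span_singleton.1 ha
    rw [map_mul, hT, zero_mul])

theorem act_mk {T : End F V} (hT : aeval T p = 0) (f : F[X]) : act hT (AdjoinRoot.mk p f) = aeval T f := rfl

theorem act_root {T : End F V} (hT : aeval T p = 0) : act hT (AdjoinRoot.root p) = T := by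
  rw [AdjoinRoot.root, act_mk, aeval_X]

/-- `T` and `S` are annihilated by the same irreducible polynomial, the dimensions are equal -/
theorem sim_of_irreducible [FiniteDimensional F V] [FiniteDimensional F W] (hp : Irreducible p) {T : End F V}
    {S : End F W} (hT : aeval T p = 0) (hS : aeval S p = 0) (h : finrank F V = finrank F W) : Sim T S := by
  have hf : Fact (Irreducible p) := ⟨hp⟩
  let m1 : Module (AdjoinRoot p) V := Module.compHom V (act hT).toRingHom
  let m2 : Module (AdjoinRoot p) W := Module.compHom W (act hS).toRingHom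
  have s1 : ∀ (k : AdjoinRoot p) (v : V), k • v = act hT k v := fun _ _ => rfl
  have s2 : ∀ (k : AdjoinRoot p) (v : W), k • v = act hS k v := fun _ _ => rfl
  have t1 : IsScalarTower F (AdjoinRoot p) V := ⟨fun c k v => by
    rw [s1, s1, map_smul, LinearMap.smul_apply]⟩
  have t2 : IsScalarTower F (AdjoinRoot p) W := ⟨fun c k v => by
    rw [s2, s2, map_smul, LinearMap.smul_apply]⟩
  have f1 : FiniteDimensional (AdjoinRoot p) V := FiniteDimensional.right F (AdjoinRoot p) V
  have f2 : FiniteDimensional (AdjoinRoot p) W := FiniteDimensional.right F (AdjoinRoot p) W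
  have f0 : FiniteDimensional F (AdjoinRoot p) := (AdjoinRoot.powerBasis hp.ne_zero).finite
  have h1 := Module.finrank_mul_finrank F (AdjoinRoot p) V
  have h2 := Module.finrank_mul_finrank F (AdjoinRoot p) W
  have h3 : finrank (AdjoinRoot p) V = finrank (AdjoinRoot p) W := by
    have h4 : 0 < finrank F (AdjoinRoot p) := Module.finrank_pos
    apply Nat.eq_of_mul_eq_mul_left h4
    rw [h1, h2, h]
  obtain ⟨e⟩ := FiniteDimensional.nonempty_linearEquiv_of_finrank_eq h3
  refine ⟨e.restrictScalars F, fun x => ?_⟩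
  have h5 : T x = AdjoinRoot.root p • x := by rw [s1, act_root]
  have h6 : S (e x) = AdjoinRoot.root p • e x := by rw [s2, act_root]
  show e (T x) = S (e x)
  rw [h5, h6, map_smul]

end irr

/-! ### K -/

theorem sim_sub_of_quadratic [Finite F] [FiniteDimensional F V] {T : End F V} {a b : F}
    (hirr : Irreducible (X ^ 2 - C a * X + C b : F[X])) (hT : T * T = a • T - b • 1) : Sim T (a • 1 - T) := by
  refine sim_of_irreducible hirr ?_ ?_ rfl
  · simp only [map_add, map_sub, map_mul, map_pow, aeval_X, aeval_C, Algebra.algebraMap_eq_smul_one]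
    rw [pow_two, hT, smul_one_mul]
    abel
  · simp only [map_add, map_sub, map_mul, map_pow, aeval_X, aeval_C, Algebra.algebraMap_eq_smul_one]
    have h1 : (a • (1 : End F V) - T) ^ 2 = (a * a) • 1 - (2 * a) • T + T * T := by
      rw [pow_two, sub_mul, mul_sub, mul_sub, smul_one_mul, smul_one_mul, mul_smul_one, smul_smul, two_mul, add_smul]
      abel
    rw [h1, hT, smul_one_mul, smul_sub, smul_smul, two_mul, add_smul]
    abel

/-! ### L -/

/-- a common eigenvector -/
theorem prod_ofFn_apply {n : ℕ} (A : Fin n → End F V) (c : Fin n → F) (v : V) (h : ∀ k, A k v = c k • v) :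
    (List.ofFn A).prod v = (∏ k, c k) • v := by
  induction n with
  | zero => simp
  | succ n ih =>
    rw [List.ofFn_succ, List.prod_cons, Fin.prod_univ_succ, Module.End.mul_apply,
      ih (fun i => A i.succ) (fun i => c i.succ) (fun k => h k.succ), map_smul, h 0, smul_smul, mul_comm]

theorem scalar_of_diag {n : ℕ} (b : Basis (Fin n) F V) (α : Fin n → F) (T : End F V)
    (h : ∀ i, T (b i) = α i • b i) : HP T n ((∏ i, α i) • (1 : End F V)) := by
  rcases n with _ | n
  · refine ⟨[], rfl, by simp, ?_⟩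
    simp
  let A : Fin (n + 1) → End F V := fun k => b.constr F fun i => α (i + k) • b i
  have hA : ∀ k i, A k (b i) = α (i + k) • b i := fun k i => b.constr_basis F _ i
  refine ⟨List.ofFn A, List.length_ofFn, ?_, ?_⟩
  · intro B hB
    obtain ⟨k, rfl⟩ := (List.mem_ofFn' _ _).1 hB
    refine ⟨b.equiv b (Equiv.subRight k), fun x => ?_⟩
    have h1 : ((b.equiv b (Equiv.subRight k)).toLinearMap ∘ₗ T) = A k ∘ₗ (b.equiv b (Equiv.subRight k)).toLinearMap := by
      refine b.ext fun i => ?_
      simp only [LinearMap.comp_apply, LinearEquiv.coe_coe, h, map_smul, Basis.equiv_apply, hA,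
        Equiv.subRight_apply, sub_add_cancel]
    exact LinearMap.congr_fun h1 x
  · refine b.ext fun i => ?_
    rw [prod_ofFn_apply A (fun k => α (i + k)) (b i) (fun k => hA k i)]
    rw [LinearMap.smul_apply, Module.End.one_apply]
    congr 1
    exact Fintype.prod_equiv (Equiv.addLeft i) _ _ (fun k => rfl)

/-! ### N -/

theorem expand_pow_card [Finite F] (f : F[X]) (i : ℕ) : expand F (Nat.card F ^ i) f = f ^ (Nat.card F ^ i) := by
  have : Fintype F := Fintype.ofFinite F
  induction i with
  | zero => simp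
  | succ i ih =>
    rw [pow_succ', expand_mul, ih, map_pow, Nat.card_eq_fintype_card, FiniteField.expand_card, ← pow_mul]

theorem prod_ofFn_pow {A : Type*} [Monoid A] (T : A) {n : ℕ} (e : Fin n → ℕ) :
    (List.ofFn fun i => T ^ e i).prod = T ^ ∑ i, e i := by
  induction n with
  | zero => simp
  | succ n ih => rw [List.ofFn_succ, List.prod_cons, Fin.sum_univ_succ, pow_add, ih]

theorem finrank_adjoinRoot {p : F[X]} (hp : p ≠ 0) : finrank F (AdjoinRoot p) = p.natDegree := by
  rw [(AdjoinRoot.powerBasis hp).finrank, AdjoinRoot.powerBasis_dim]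

/-- the norm of `T` in the field `F[T]` -/
theorem pow_eq_det [Finite F] [FiniteDimensional F V] {T : End F V} (hirr : Irreducible (LinearMap.charpoly T)) :
    T ^ ∑ i : Fin (finrank F V), Nat.card F ^ (i : ℕ) = LinearMap.det T • (1 : End F V) := by
  have hf : Fact (Irreducible (LinearMap.charpoly T)) := ⟨hirr⟩
  have hT : aeval T (LinearMap.charpoly T) = 0 := LinearMap.aeval_self_charpoly T
  have f0 : FiniteDimensional F (AdjoinRoot (LinearMap.charpoly T)) := (AdjoinRoot.powerBasis hirr.ne_zero).finite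
  have f1 : Finite (AdjoinRoot (LinearMap.charpoly T)) := Module.finite_of_finite F
  have h1 := FiniteField.algebraMap_norm_eq_pow_sum F (AdjoinRoot (LinearMap.charpoly T))
    (AdjoinRoot.root (LinearMap.charpoly T))
  have h2 : finrank F (AdjoinRoot (LinearMap.charpoly T)) = finrank F V := by
    rw [finrank_adjoinRoot hirr.ne_zero, LinearMap.charpoly_natDegree]
  have h3 : Algebra.norm F (AdjoinRoot.root (LinearMap.charpoly T)) = LinearMap.det T := by
    have h4 := Algebra.PowerBasis.norm_gen_eq_coeff_zero_minpoly (AdjoinRoot.powerBasis hirr.ne_zero)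
    rw [AdjoinRoot.powerBasis_gen, AdjoinRoot.powerBasis_dim, AdjoinRoot.minpoly_root hirr.ne_zero,
      (LinearMap.charpoly_monic T).leadingCoeff, inv_one, C_1, mul_one, LinearMap.charpoly_natDegree] at h4
    rw [h4, LinearMap.det_eq_sign_charpoly_coeff]
  rw [h2, h3] at h1
  have h5 := congrArg (act hT) h1
  rw [map_pow, act_root, AlgHom.commutes, Algebra.algebraMap_eq_smul_one] at h5
  rw [h5, Fin.sum_univ_eq_sum_range (fun i => Nat.card F ^ i)]

theorem scalar_of_irreducible [Finite F] [FiniteDimensional F V] {T : End F V}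
    (hirr : Irreducible (LinearMap.charpoly T)) : HP T (finrank F V) (LinearMap.det T • (1 : End F V)) := by
  have hT : aeval T (LinearMap.charpoly T) = 0 := LinearMap.aeval_self_charpoly T
  refine ⟨List.ofFn fun i : Fin (finrank F V) => T ^ (Nat.card F ^ (i : ℕ)), List.length_ofFn, ?_, ?_⟩
  · intro B hB
    obtain ⟨k, rfl⟩ := (List.mem_ofFn' _ _).1 hB
    refine sim_of_irreducible hirr hT ?_ rfl
    rw [← expand_aeval, expand_pow_card, map_pow, hT, zero_pow (pow_ne_zero _ Nat.card_pos.ne')]
  · rw [prod_ofFn_pow, pow_eq_det hirr]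

/-! ### O -/

theorem sim_of_involution {M N P : Matrix (Fin 2) (Fin 2) F} (hP : P * P = 1) (h : P * M = N * P) :
    Sim (Matrix.toLin' M) (Matrix.toLin' N) := by
  have hinv : Function.Involutive (Matrix.toLin' P) := by
    intro x
    rw [← Matrix.toLin'_mul_apply, hP, Matrix.toLin'_one, LinearMap.id_apply]
  refine ⟨LinearEquiv.ofInvolutive (Matrix.toLin' P) hinv, fun x => ?_⟩
  show Matrix.toLin' P (Matrix.toLin' M x) = Matrix.toLin' N (Matrix.toLin' P x)
  rw [← Matrix.toLin'_mul_apply, ← Matrix.toLin'_mul_apply, h]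

/-- a 2 x 2 matrix is similar to its adjugate -/
theorem sim_adjugate (M : Matrix (Fin 2) (Fin 2) F) : Sim (Matrix.toLin' M) (Matrix.toLin' M.adjugate) := by
  rw [Matrix.adjugate_fin_two]
  by_cases hc : M 1 0 = 0
  · by_cases hb : M 0 1 = 0
    · refine sim_of_involution (P := !![0, 1; 1, 0]) ?_ ?_
      · ext i j; fin_cases i <;> fin_cases j <;> simp [Matrix.mul_apply, Fin.sum_univ_two]
      · ext i j; fin_cases i <;> fin_cases j <;> simp [Matrix.mul_apply, Fin.sum_univ_two, hb, hc]
    · refine sim_of_involution (P := !![-1, 0; (M 0 0 - M 1 1) / M 0 1, 1]) ?_ ?_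
      · ext i j; fin_cases i <;> fin_cases j <;> simp [Matrix.mul_apply, Fin.sum_univ_two]
      · ext i j; fin_cases i <;> fin_cases j <;> simp [Matrix.mul_apply, Fin.sum_univ_two, hc] <;> field_simp <;> ring
  · refine sim_of_involution (P := !![1, (M 1 1 - M 0 0) / M 1 0; 0, -1]) ?_ ?_
    · ext i j; fin_cases i <;> fin_cases j <;> simp [Matrix.mul_apply, Fin.sum_univ_two]
    · ext i j; fin_cases i <;> fin_cases j <;> simp [Matrix.mul_apply, Fin.sum_univ_two] <;> field_simp <;> ring

theorem exists_compl (B : End F (Fin 2 → F)) :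
    ∃ A : End F (Fin 2 → F), Sim B A ∧ B * A = LinearMap.det B • (1 : End F (Fin 2 → F)) := by
  refine ⟨Matrix.toLin' (LinearMap.toMatrix' B).adjugate, ?_, ?_⟩
  · have h := sim_adjugate (LinearMap.toMatrix' B)
    rwa [Matrix.toLin'_toMatrix'] at h
  · conv_lhs => rw [← Matrix.toLin'_toMatrix' B]
    rw [LinearMap.toMatrix'_toLin', Module.End.mul_eq_comp, ← Matrix.toLin'_mul, Matrix.mul_adjugate, LinearMap.det_toMatrix',
      map_smul, Matrix.toLin'_one]
    rfl

theorem sim_smul_one [FiniteDimensional F V] [FiniteDimensional F W] (l : F) (h : finrank F V = finrank F W) :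
    Sim (l • (1 : End F V)) (l • (1 : End F W)) := by
  obtain ⟨e⟩ := FiniteDimensional.nonempty_linearEquiv_of_finrank_eq h
  exact ⟨e, fun x => by simp⟩

theorem smul_prodMap (c : F) : (c • (1 : End F V)).prodMap (c • (1 : End F W)) = c • (1 : End F (V × W)) := by
  ext x <;> simp

/-- `(A × C) × B ~ (A × B) × C` -/
theorem sim_swap (A : End F V) (C : End F W) (B : End F U) :
    Sim ((A.prodMap C).prodMap B) ((A.prodMap B).prodMap C) := by
  refine ⟨LinearEquiv.ofLinearMap
    (LinearMap.prod (LinearMap.prod (LinearMap.fst F V W ∘ₗ LinearMap.fst F (V × W) U) (LinearMap.snd F (V × W) U))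
      (LinearMap.snd F V W ∘ₗ LinearMap.fst F (V × W) U))
    (LinearMap.prod (LinearMap.prod (LinearMap.fst F V U ∘ₗ LinearMap.fst F (V × U) W) (LinearMap.snd F (V × U) W))
      (LinearMap.snd F V U ∘ₗ LinearMap.fst F (V × U) W)) ?_ ?_, fun x => rfl⟩
  · ext x <;> simp
  · ext x <;> simp

theorem hp_two {T A B : End F V} {S : End F W} (hA : Sim S A) (hB : Sim S B) (h : A * B = T) : HP S 2 T := by
  have h1 := hp_append (hp_one hA) (hp_one hB)
  rwa [h] at h1

theorem scalar_of_two {B : End F (Fin 2 → F)} {l : F}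
    (h3 : HP ((l • (1 : End F (Fin 1 → F))).prodMap B) 3
      ((l * LinearMap.det B) • (1 : End F ((Fin 1 → F) × (Fin 2 → F))))) (m : ℕ) :
    HP ((l • (1 : End F (Fin m → F))).prodMap B) (m + 2)
      ((l ^ m * LinearMap.det B) • (1 : End F ((Fin m → F) × (Fin 2 → F)))) := by
  obtain ⟨A, hA, hBA⟩ := exists_compl B
  induction m using Nat.twoStepInduction with
  | zero =>
    refine hp_two (A := (l • (1 : End F (Fin 0 → F))).prodMap B) (B := (l • (1 : End F (Fin 0 → F))).prodMap A)
      (sim_refl _) (sim_prodMap (sim_refl _) hA) ?_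
    rw [LinearMap.prodMap_mul, hBA, pow_zero, one_mul, ← smul_prodMap]
    congr 1
    ext x i
    exact i.elim0
  | one => rw [pow_one]; exact h3
  | more m ih _ =>
    have hE : finrank F (Fin (m + 2) → F) = finrank F ((Fin m → F) × (Fin 2 → F)) := by
      rw [Module.finrank_prod, Module.finrank_fin_fun, Module.finrank_fin_fun, Module.finrank_fin_fun]
    have h1 := hp_prodMap ih (l • (1 : End F (Fin 2 → F)))
    have s1 : Sim ((l • (1 : End F (Fin (m + 2) → F))).prodMap B)
        (((l • (1 : End F (Fin m → F))).prodMap B).prodMap (l • (1 : End F (Fin 2 → F)))) := by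
      refine sim_trans (sim_prodMap (sim_smul_one l hE) (sim_refl B)) ?_
      rw [← smul_prodMap]
      exact sim_swap _ _ _
    have h2 := hp_of_sim s1 h1
    have h4 : HP ((l • (1 : End F (Fin (m + 2) → F))).prodMap B) 2
        (((l * l) • (1 : End F ((Fin m → F) × (Fin 2 → F)))).prodMap (LinearMap.det B • (1 : End F (Fin 2 → F)))) := by
      refine hp_two (A := (l • (1 : End F ((Fin m → F) × (Fin 2 → F)))).prodMap B)
        (B := (l • (1 : End F ((Fin m → F) × (Fin 2 → F)))).prodMap A)
        (sim_prodMap (sim_smul_one l hE) (sim_refl B)) (sim_prodMap (sim_smul_one l hE) hA) ?_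
      rw [LinearMap.prodMap_mul, hBA]
      congr 1
      ext x <;> simp [mul_assoc]
    have h5 := hp_append h2 h4
    have h6 : ((l ^ m * LinearMap.det B) • (1 : End F ((Fin m → F) × (Fin 2 → F)))).prodMap
          ((l • (1 : End F (Fin 2 → F))) ^ (m + 2)) *
        ((l * l) • (1 : End F ((Fin m → F) × (Fin 2 → F)))).prodMap (LinearMap.det B • (1 : End F (Fin 2 → F))) =
        (l ^ (m + 2) * LinearMap.det B) • (1 : End F (((Fin m → F) × (Fin 2 → F)) × (Fin 2 → F))) := by
      rw [LinearMap.prodMap_mul, _root_.smul_pow, one_pow,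
        ← smul_prodMap (V := (Fin m → F) × (Fin 2 → F)) (W := Fin 2 → F) (l ^ (m + 2) * LinearMap.det B)]
      congr 1
      · rw [smul_mul_smul_comm, mul_one]
        congr 1
        ring
      · rw [smul_mul_smul_comm, mul_one]
    rw [h6] at h5
    have hE' : finrank F (((Fin m → F) × (Fin 2 → F)) × (Fin 2 → F)) = finrank F ((Fin (m + 2) → F) × (Fin 2 → F)) := by
      simp only [Module.finrank_prod, Module.finrank_fin_fun]
    obtain ⟨e⟩ := FiniteDimensional.nonempty_linearEquiv_of_finrank_eq hE'
    exact hp_scalar h5 e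

end Cfsg.Agent.H71.CovScal
end

-- part: H71/CovFull
section
/-!
# Full centralizers (helper71, task 746 for S2483)
-/

set_option autoImplicit false

namespace Cfsg.Agent.H71.CovFull

open Module Polynomial Cfsg.Agent.H166.Cov Cfsg.Agent.H71.CovScal

universe u

variable {F : Type u} [Field F] {V W U : Type u} [AddCommGroup V] [Module F V]
  [AddCommGroup W] [Module F W] [AddCommGroup U] [Module F U]

theorem det_conj_equiv (e : V ≃ₗ[F] W) (f : V ≃ₗ[F] V) :
    LinearMap.det (((e.symm.trans f).trans e : W ≃ₗ[F] W) : W →ₗ[F] W) = LinearMap.det (f : V →ₗ[F] V) := by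
  rw [← LinearMap.det_conj (f : V →ₗ[F] V) e]
  rfl

theorem Full.sim {S : End F V} {T : End F W} (h : Sim S T) (hS : Full S) : Full T := by
  obtain ⟨e, he⟩ := h
  intro c hc
  obtain ⟨f, hf, hfS⟩ := hS c hc
  refine ⟨(e.symm.trans f).trans e, by rw [det_conj_equiv, hf], fun x => ?_⟩
  have h1 : e.symm (T x) = S (e.symm x) := by
    apply e.injective
    rw [e.apply_symm_apply, he, e.apply_symm_apply]
  show e (f (e.symm (T x))) = T (e (f (e.symm x)))
  rw [h1, hfS, he]

theorem det_prodCongr [FiniteDimensional F U] [FiniteDimensional F W] (e : U ≃ₗ[F] U) (f : W ≃ₗ[F] W) :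
    LinearMap.det ((e.prodCongr f : (U × W) ≃ₗ[F] (U × W)) : U × W →ₗ[F] U × W) =
      LinearMap.det (e : U →ₗ[F] U) * LinearMap.det (f : W →ₗ[F] W) := by
  rw [← LinearMap.det_prodMap]
  rfl

theorem Full.prodMap_left [FiniteDimensional F U] [FiniteDimensional F W] {P : End F U} (T : End F W) (h : Full P) :
    Full (P.prodMap T) := by
  intro c hc
  obtain ⟨e, he, hP⟩ := h c hc
  refine ⟨e.prodCongr (LinearEquiv.refl F W), ?_, fun x => ?_⟩
  · rw [det_prodCongr, he]
    have : LinearMap.det ((LinearEquiv.refl F W : W ≃ₗ[F] W) : W →ₗ[F] W) = 1 := LinearMap.det_id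
    rw [this, mul_one]
  · ext
    · exact hP x.1
    · rfl

theorem det_smulOfNeZero [FiniteDimensional F V] {c : F} (hc : c ≠ 0) :
    LinearMap.det ((LinearEquiv.smulOfNeZero F V c hc : V ≃ₗ[F] V) : V →ₗ[F] V) = c ^ finrank F V := by
  have h : ((LinearEquiv.smulOfNeZero F V c hc : V ≃ₗ[F] V) : V →ₗ[F] V) = c • LinearMap.id := by
    ext x; rfl
  rw [h, LinearMap.det_smul, LinearMap.det_id, mul_one]

theorem Full.of_coprime_finrank [FiniteDimensional F U] [FiniteDimensional F W] (P : End F U) (T : End F W)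
    (h : (finrank F U).Coprime (finrank F W)) : Full (P.prodMap T) := by
  intro c hc
  set m := finrank F U
  set n := finrank F W
  have h1 : (m : ℤ) * Nat.gcdA m n + n * Nat.gcdB m n = 1 := by
    rw [← Nat.gcd_eq_gcd_ab, h]; rfl
  have ha : c ^ (Nat.gcdA m n) ≠ 0 := zpow_ne_zero _ hc
  have hb : c ^ (Nat.gcdB m n) ≠ 0 := zpow_ne_zero _ hc
  refine ⟨(LinearEquiv.smulOfNeZero F U _ ha).prodCongr (LinearEquiv.smulOfNeZero F W _ hb), ?_, fun x => ?_⟩
  · rw [det_prodCongr, det_smulOfNeZero, det_smulOfNeZero, ← zpow_natCast, ← zpow_natCast, ← zpow_mul, ← zpow_mul,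
      ← zpow_add₀ hc]
    have : Nat.gcdA m n * ((finrank F U : ℕ) : ℤ) + Nat.gcdB m n * ((finrank F W : ℕ) : ℤ) = 1 := by
      rw [← h1]; ring
    rw [this, zpow_one]
  · ext
    · exact (map_smul P (c ^ Nat.gcdA m n) x.1).symm
    · exact (map_smul T (c ^ Nat.gcdB m n) x.2).symm

theorem Full.hps {T g : End F V} {k : ℕ} (hT : Full T) (h : HP T k g) : HPS T k g := by
  obtain ⟨L, h1, h2, h3⟩ := h
  refine ⟨L, h1, fun A hA => ?_, h3⟩
  obtain ⟨e, he⟩ := h2 A hA
  have hd : LinearMap.det (e : V →ₗ[F] V) ≠ 0 := (LinearEquiv.isUnit_det' e).ne_zero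
  obtain ⟨f, hf, hfT⟩ := hT (LinearMap.det (e : V →ₗ[F] V))⁻¹ (inv_ne_zero hd)
  refine ⟨f.trans e, ?_, fun x => ?_⟩
  · have h4 : ((f.trans e : V ≃ₗ[F] V) : V →ₗ[F] V) = (e : V →ₗ[F] V) * (f : V →ₗ[F] V) := rfl
    rw [h4, map_mul, hf, mul_inv_cancel₀ hd]
  · show e (f (T x)) = A (e (f x))
    rw [hfT, he]

/-! ### irreducible characteristic polynomial -/

theorem det_act [Finite F] [FiniteDimensional F V] {T : End F V} (hirr : Irreducible (LinearMap.charpoly T))
    (k : AdjoinRoot (LinearMap.charpoly T)) :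
    LinearMap.det (act (LinearMap.aeval_self_charpoly T) k) = Algebra.norm F k := by
  have hf : Fact (Irreducible (LinearMap.charpoly T)) := ⟨hirr⟩
  have hT : aeval T (LinearMap.charpoly T) = 0 := LinearMap.aeval_self_charpoly T
  let m1 : Module (AdjoinRoot (LinearMap.charpoly T)) V := Module.compHom V (act hT).toRingHom
  have s1 : ∀ (k : AdjoinRoot (LinearMap.charpoly T)) (v : V), k • v = act hT k v := fun _ _ => rfl
  have t1 : IsScalarTower F (AdjoinRoot (LinearMap.charpoly T)) V := ⟨fun c k v => by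
    rw [s1, s1, map_smul, LinearMap.smul_apply]⟩
  have f1 : FiniteDimensional (AdjoinRoot (LinearMap.charpoly T)) V :=
    FiniteDimensional.right F (AdjoinRoot (LinearMap.charpoly T)) V
  have f0 : FiniteDimensional F (AdjoinRoot (LinearMap.charpoly T)) := (AdjoinRoot.powerBasis hirr.ne_zero).finite
  have h1 := Module.finrank_mul_finrank F (AdjoinRoot (LinearMap.charpoly T)) V
  have h2 : finrank F (AdjoinRoot (LinearMap.charpoly T)) = finrank F V := by
    rw [finrank_adjoinRoot hirr.ne_zero, LinearMap.charpoly_natDegree]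
  have h4 : 0 < finrank F (AdjoinRoot (LinearMap.charpoly T)) := Module.finrank_pos
  have h3 : finrank (AdjoinRoot (LinearMap.charpoly T)) V = 1 := by
    apply Nat.eq_of_mul_eq_mul_left h4
    rw [h1, h2, mul_one]
  obtain ⟨e⟩ := FiniteDimensional.nonempty_linearEquiv_of_finrank_eq
    (R := AdjoinRoot (LinearMap.charpoly T)) (M := AdjoinRoot (LinearMap.charpoly T)) (M' := V)
    (by rw [Module.finrank_self, h3])
  rw [Algebra.norm_apply, ← LinearMap.det_conj (Algebra.lmul F _ k) (e.restrictScalars F)]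
  congr 1
  ext x
  show act hT k x = e (k * e.symm x)
  rw [← smul_eq_mul, map_smul, e.apply_symm_apply, s1]

theorem Full.of_irreducible [Finite F] [FiniteDimensional F V] {T : End F V}
    (h : Irreducible (LinearMap.charpoly T)) : Full T := by
  intro c hc
  have hf : Fact (Irreducible (LinearMap.charpoly T)) := ⟨h⟩
  have hT : aeval T (LinearMap.charpoly T) = 0 := LinearMap.aeval_self_charpoly T
  have f0 : FiniteDimensional F (AdjoinRoot (LinearMap.charpoly T)) := (AdjoinRoot.powerBasis h.ne_zero).finite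
  have f1 : Finite (AdjoinRoot (LinearMap.charpoly T)) := Module.finite_of_finite F
  obtain ⟨k, hk⟩ := FiniteField.norm_surjective F (AdjoinRoot (LinearMap.charpoly T)) c
  have hk0 : k ≠ 0 := by
    rintro rfl
    rw [Algebra.norm_zero] at hk
    exact hc hk.symm
  refine ⟨LinearEquiv.ofLinearMap (act hT k) (act hT k⁻¹) ?_ ?_, ?_, fun x => ?_⟩
  · rw [← Module.End.mul_eq_comp, ← map_mul, mul_inv_cancel₀ hk0, map_one]; rfl
  · rw [← Module.End.mul_eq_comp, ← map_mul, inv_mul_cancel₀ hk0, map_one]; rfl
  · rw [← hk, ← det_act h k]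
    rfl
  · show act hT k (T x) = T (act hT k x)
    have h1 : act hT k * act hT (AdjoinRoot.root _) = act hT (AdjoinRoot.root _) * act hT k := by
      rw [← map_mul, mul_comm, map_mul]
    have h2 := LinearMap.congr_fun h1 x
    rw [Module.End.mul_apply, Module.End.mul_apply, LinearMap.congr_fun (act_root hT) x] at h2
    rw [h2]
    exact LinearMap.congr_fun (act_root hT) _

/-! ### nice endomorphisms -/

theorem Full.of_line [FiniteDimensional F V] (h : finrank F V = 1) (T : End F V) : Full T := by
  intro c hc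
  refine ⟨LinearEquiv.smulOfNeZero F V c hc, by rw [det_smulOfNeZero, h, pow_one], fun x => ?_⟩
  exact (map_smul T c x).symm

theorem Full.of_nice [FiniteDimensional F V] {ν : F} {T : End F V} (h : Nice ν T) : Full T := by
  obtain ⟨-, p, hp, hν⟩ := h
  have hp0 : p ≠ 0 := by rintro rfl; simp at hν
  have hroot : (LinearMap.charpoly T).rootMultiplicity ν = 1 := by
    rw [hp, rootMultiplicity_mul (mul_ne_zero (X_sub_C_ne_zero ν) hp0), rootMultiplicity_X_sub_C_self,
      rootMultiplicity_eq_zero hν]
  have h1 : finrank F ↥(Module.End.eigenspace T ν) = 1 := by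
    apply le_antisymm
    · exact (LinearMap.finrank_eigenspace_le T ν).trans_eq hroot
    · rw [Nat.one_le_iff_ne_zero, Ne, Submodule.finrank_eq_zero]
      have h2 : T.HasEigenvalue ν := by
        rw [Module.End.hasEigenvalue_iff_isRoot_charpoly, hp, IsRoot.def, eval_mul, eval_sub, eval_X, eval_C, sub_self,
          zero_mul]
      exact h2
  have hcop : IsCoprime (X - C ν) p := by
    rw [(irreducible_X_sub_C ν).coprime_iff_not_dvd, dvd_iff_isRoot]
    exact hν
  have hker : LinearMap.ker (aeval T (X - C ν)) = Module.End.eigenspace T ν := by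
    rw [Module.End.eigenspace_def, map_sub, aeval_X, aeval_C, Algebra.algebraMap_eq_smul_one]
  have hd := disjoint_ker_aeval_of_isCoprime T hcop
  have hs := sup_ker_aeval_eq_ker_aeval_mul_of_coprime T hcop
  rw [← hp, LinearMap.aeval_self_charpoly, LinearMap.ker_zero] at hs
  rw [hker] at hd hs
  have hc : IsCompl (Module.End.eigenspace T ν) (LinearMap.ker (aeval T p)) := ⟨hd, codisjoint_iff.2 hs⟩
  have hA : ∀ x ∈ Module.End.eigenspace T ν, T x ∈ Module.End.eigenspace T ν := by
    intro x hx
    rw [Module.End.mem_eigenspace_iff.1 hx]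
    exact Submodule.smul_mem _ _ hx
  have hB : ∀ x ∈ LinearMap.ker (aeval T p), T x ∈ LinearMap.ker (aeval T p) := by
    intro x hx
    rw [LinearMap.mem_ker] at hx ⊢
    have h2 : aeval T p * T = T * aeval T p := by
      have h3 : aeval T (p * X) = aeval T (X * p) := by rw [mul_comm]
      rwa [map_mul, map_mul, aeval_X] at h3
    rw [← Module.End.mul_apply, h2, Module.End.mul_apply, hx, map_zero]
  have h3 : Sim ((T.restrict hA).prodMap (T.restrict hB)) T := by
    refine ⟨Submodule.prodEquivOfIsCompl _ _ hc, fun x => ?_⟩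
    simp [Submodule.coe_prodEquivOfIsCompl']
  exact Full.sim h3 (Full.prodMap_left _ (Full.of_line h1 _))

end Cfsg.Agent.H71.CovFull
end
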